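import Groth.Agent.RlimMilnor.Canonical
import Groth.Agent.AdicRingLib.LimitSystem

/-!
# Coherent formal systems on an affine scheme over a complete ring
-/

set_option autoImplicit false
set_option linter.all false
set_option backward.isDefEq.respectTransparency false

universe u

open CategoryTheory CategoryTheory.Limits Opposite AlgebraicGeometry
open Groth.Agent.FormalFun Groth.Agent.QCohBase

namespace Groth.Agent.RlimMilnor.CohSys

variable {A : Type u} [CommRing A] [IsNoetherianRing A] {I : Ideal A}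

noncomputable local instance : (Spec (CommRingCat.of A)).Over (Spec (CommRingCat.of A)) := ⟨𝟙 _⟩

lemma homEquiv_smul_comp {N : ModuleCat.{u} A} {Z : (Spec (CommRingCat.of A)).Modules}
    (g : N ⟶ (ΓF A).obj Z) (a : A) (x : N) :
    (tilde.adjunction (R := CommRingCat.of A)).homEquiv N Z
      (Formal.smulMod A ((tilde.functor (CommRingCat.of A)).obj N) a ≫
        ((tilde.adjunction (R := CommRingCat.of A)).homEquiv N Z).symm g) x = (a • g x : (ΓF A).obj Z) := by
  rw [smulMod_naturality, Adjunction.homEquiv_naturality_right, Equiv.apply_symm_apply]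
  exact sect_top_smul Z a (g x)

omit [IsNoetherianRing A] in
lemma exists_factor_mod {N Z W : ModuleCat.{u} A} (π : N ⟶ Z) (hπ : Function.Surjective π.hom) (p : N ⟶ W)
    (h : LinearMap.ker π.hom ≤ LinearMap.ker p.hom) : ∃ g : Z ⟶ W, π ≫ g = p := by
  refine ⟨ModuleCat.ofHom ((Submodule.liftQ _ p.hom h) ∘ₗ
    (LinearMap.quotKerEquivOfSurjective _ hπ).symm.toLinearMap), ?_⟩
  ext x
  show Submodule.liftQ _ p.hom h ((LinearMap.quotKerEquivOfSurjective _ hπ).symm (π.hom x)) = _
  rw [show (LinearMap.quotKerEquivOfSurjective _ hπ).symm (π.hom x) =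
    Submodule.Quotient.mk x from (LinearEquiv.symm_apply_eq _).2 rfl]
  rfl

lemma exists_factor_tilde {N : ModuleCat.{u} A} {Z W : (Spec (CommRingCat.of A)).Modules} (hZ : IsIso (Scheme.Modules.fromTildeΓ (R := CommRingCat.of A) Z))
    (π : N ⟶ (ΓF A).obj Z) (hπ : Function.Surjective π.hom) (p : N ⟶ (ΓF A).obj W)
    (h : LinearMap.ker π.hom ≤ LinearMap.ker p.hom) :
    Epi (((tilde.adjunction (R := CommRingCat.of A)).homEquiv N Z).symm π) ∧
      ∃ s : Z ⟶ W, ((tilde.adjunction (R := CommRingCat.of A)).homEquiv N Z).symm π ≫ s =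
        ((tilde.adjunction (R := CommRingCat.of A)).homEquiv N W).symm p := by
  obtain ⟨g, hg⟩ := exists_factor_mod π hπ p h
  haveI : Epi π := (ModuleCat.epi_iff_surjective _).2 hπ
  have hq : ((tilde.adjunction (R := CommRingCat.of A)).homEquiv N Z).symm π =
      (tilde.functor (CommRingCat.of A)).map π ≫ Scheme.Modules.fromTildeΓ (R := CommRingCat.of A) Z := Adjunction.homEquiv_counit _ _ _ _
  haveI := hZ
  haveI := Functor.preservesEpimorphisms_of_adjunction (tilde.adjunction (R := CommRingCat.of A))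
  haveI : Epi ((tilde.functor (CommRingCat.of A)).map π) := Functor.map_epi _ π
  refine ⟨by rw [hq]; exact epi_comp _ _,
    inv (Scheme.Modules.fromTildeΓ (R := CommRingCat.of A) Z) ≫ ((tilde.adjunction (R := CommRingCat.of A)).homEquiv _ W).symm g, ?_⟩
  rw [hq, Category.assoc, IsIso.hom_inv_id_assoc]
  exact (Adjunction.homEquiv_naturality_left_symm _ _ _).symm.trans (congrArg _ hg)

variable {G : ℕᵒᵖ ⥤ (Spec (CommRingCat.of A)).Modules} (hG : Formal.IsCohFormal I G)
include hG

theorem sys_Γ : AdicRingLib.LimitSystem.Sys I (fun n => ↑((G ⋙ ΓF A).obj (op n)))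
    (fun n => ((G ⋙ ΓF A).map (homOfLE (Nat.le_succ n)).op).hom) ↑(limit (G ⋙ ΓF A))
    (fun n => (limit.π (G ⋙ ΓF A) (op n)).hom) where
  surj n := surjective_Γ hG (Nat.le_succ n)
  ker n := by
    refine le_antisymm (fun x hx => ?_) (Submodule.smul_le.2 fun a ha x _ => ?_)
    · obtain ⟨r, b, hb⟩ := Submodule.fg_iff_exists_fin_generating_family.1 (IsNoetherian.noetherian (I ^ (n + 1)))
      obtain ⟨w, hw⟩ := exists_eq_sum_of_trV_eq_zero (G := G) ⟨fun k => (hG.1 k).1, hG.2⟩
        (isAffineOpen_top _) n b hb x hx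
      have : x = ∑ j, b j • (show ↑((G ⋙ ΓF A).obj (op (n + 1))) from w j) :=
        hw.trans (Finset.sum_congr rfl fun j _ => sect_top_smul (G.obj (op (n + 1))) (b j) (w j))
      rw [this]
      exact Submodule.sum_mem _ fun j _ =>
        Submodule.smul_mem_smul (hb ▸ Ideal.subset_span ⟨j, rfl⟩) Submodule.mem_top
    · rw [LinearMap.mem_ker, map_smul]
      exact (sect_top_smul (G.obj (op n)) a _).symm.trans
        (act_eq_zero (G := G) ⟨fun k => (hG.1 k).1, hG.2⟩ _ ha _)
  comp n := by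
    ext x
    exact ConcreteCategory.congr_hom (limit.w (G ⋙ ΓF A) (homOfLE (Nat.le_succ n)).op) x
  inj x hx := by
    refine Concrete.limit_ext _ _ _ fun ⟨n⟩ => ?_
    rw [map_zero]
    exact hx n
  lift y hy := by
    obtain ⟨l₀, hl₀⟩ := TowerLib.Compatible.exists_lift ((G ⋙ ΓF A) ⋙ forget₂ (ModuleCat.{u} A) AddCommGrpCat.{u})
      (x := y) hy
    let e := preservesLimitIso (forget₂ (ModuleCat.{u} A) AddCommGrpCat.{u}) (G ⋙ ΓF A)
    refine ⟨e.inv l₀, fun n => ?_⟩
    refine Eq.trans ?_ (hl₀ n)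
    exact ConcreteCategory.congr_hom
      (preservesLimitIso_inv_π (forget₂ (ModuleCat.{u} A) AddCommGrpCat.{u}) (G ⋙ ΓF A) (op n)) l₀

theorem exists_coh_iso_completion [IsAdicComplete I A] :
    ∃ M : (Spec (CommRingCat.of A)).Modules, Coh.IsCoh M ∧ Nonempty (Formal.completion I M ≅ G) := by
  let N := limit (G ⋙ ΓF A)
  have h0 : Module.Finite A ↑((G ⋙ ΓF A).obj (op 0)) := by
    obtain ⟨t, ht⟩ := (isFiniteType_toFinite (hG.1 0) (isAffineOpen_top (Spec (CommRingCat.of A)))).fg_top
    refine ⟨⟨t, top_unique fun x _ => ?_⟩⟩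
    suffices H : ∀ y : Γ(G.obj (op 0), ⊤), y ∈ Submodule.span Γ(Spec (CommRingCat.of A), ⊤) (t : Set _) →
        (show ↑((G ⋙ ΓF A).obj (op 0)) from y) ∈ Submodule.span A (show Set ↑((G ⋙ ΓF A).obj (op 0)) from (t : Set Γ(G.obj (op 0), ⊤))) from
      H x (by rw [ht]; exact Submodule.mem_top)
    intro y hy
    induction hy using Submodule.span_induction with
    | mem y hy => exact Submodule.subset_span hy
    | zero => exact zero_mem _
    | add y z _ _ hy hz => exact add_mem hy hz
    | smul r y _ hy =>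
      have h := Submodule.smul_mem (R := A) _ ((Scheme.ΓSpecIso (CommRingCat.of A)).hom r) hy
      have e : (Scheme.ΓSpecIso (CommRingCat.of A)).inv ((Scheme.ΓSpecIso (CommRingCat.of A)).hom r) = r :=
        Iso.hom_inv_id_apply _ r
      have hr : r • y = (Scheme.ΓSpecIso (CommRingCat.of A)).inv ((Scheme.ΓSpecIso (CommRingCat.of A)).hom r) • y := by
        rw [e]
      exact (congrArg (fun z => (show ↑((G ⋙ ΓF A).obj (op 0)) from z) ∈ Submodule.span A
        (show Set ↑((G ⋙ ΓF A).obj (op 0)) from (t : Set Γ(G.obj (op 0), ⊤)))) hr).mpr h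
  obtain ⟨hfin, hker⟩ := (sys_Γ hG).ker_eq_of_finite h0
  haveI : Module.Finite (CommRingCat.of A) N := hfin
  let M := (tilde.functor (CommRingCat.of A)).obj N
  have hM : Coh.IsCoh M := isCoh_tilde (R := CommRingCat.of A) N
  refine ⟨M, hM, ?_⟩
  let adj := tilde.adjunction (R := CommRingCat.of A)
  let q : ∀ n, M ⟶ G.obj (op n) := fun n => (adj.homEquiv _ _).symm (limit.π (G ⋙ ΓF A) (op n))
  have hq : ∀ n, ∀ a ∈ I ^ (n + 1), Formal.smulMod A M a ≫ q n = 0 := fun n a ha => by
    rw [smulMod_naturality]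
    exact (congrArg (q n ≫ ·) (hG.2.1 n a ha)).trans comp_zero
  let φ : ∀ n, Formal.modPow I (n + 1) M ⟶ G.obj (op n) := fun n =>
    qDesc (q n) fun a ha => mem_ann.2 (hq n a ha)
  have hφ : ∀ n, Formal.modPowπ I (n + 1) M ≫ φ n = q n := fun n => π_qDesc _ _
  haveI : ∀ n, IsIso (φ n) := fun n => by
    have hiso : IsIso (Scheme.Modules.fromTildeΓ (R := CommRingCat.of A) (G.obj (op n))) := by
      haveI := (hG.1 n).1
      exact Scheme.Modules.isIso_fromTildeΓ_of_isQuasicoherent (G.obj (op n))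
    have hsurj : Function.Surjective (limit.π (G ⋙ ΓF A) (op n)).hom := by
      have h := (sys_Γ hG).eq_top_of_map_eq_top ⊤ (by
        rw [Submodule.map_top, LinearMap.range_eq_top]; exact (sys_Γ hG).pi_zero_surjective) n
      rwa [Submodule.map_top, LinearMap.range_eq_top] at h
    obtain ⟨hepi, s, hs⟩ := exists_factor_tilde hiso (limit.π (G ⋙ ΓF A) (op n)) hsurj
      (adj.homEquiv N _ (Formal.modPowπ I (n + 1) M)) (by
        rw [hker n, Submodule.smul_le]
        intro a ha x _
        rw [LinearMap.mem_ker, map_smul]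
        refine (homEquiv_smul_comp _ a x).symm.trans ?_
        rw [Equiv.symm_apply_apply, Principal.smulMod_modPowπ _ _ _ ha, Adjunction.homEquiv_unit]
        rfl)
    have hqs : q n ≫ s = Formal.modPowπ I (n + 1) M := hs.trans (Equiv.symm_apply_apply _ _)
    haveI : Epi (q n) := hepi
    refine ⟨s, ?_, ?_⟩
    · rw [← cancel_epi (Formal.modPowπ I (n + 1) M), ← Category.assoc, hφ, hqs, Category.comp_id]
    · rw [← cancel_epi (q n), ← Category.assoc, hqs, hφ, Category.comp_id]
  let ψ : Formal.completion I M ⟶ G :=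
    NatTrans.ofOpSequence φ (fun n => by
      refine (cancel_epi (Formal.modPowπ I (n + 1 + 1) M)).1 ?_
      simp only [Formal.completion, Functor.ofOpSequence_map_homOfLE_succ]
      rw [← Category.assoc, Formal.modPowπ_trans, hφ, ← Category.assoc, hφ]
      show (adj.homEquiv _ _).symm _ = (adj.homEquiv _ _).symm _ ≫ _
      rw [← adj.homEquiv_naturality_right_symm]
      congr 1
      exact (limit.w (G ⋙ ΓF A) (homOfLE (Nat.le_succ n)).op).symm)
  haveI : ∀ n, IsIso (ψ.app n) := fun ⟨n⟩ => inferInstanceAs (IsIso (φ n))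
  haveI := NatIso.isIso_of_isIso_app ψ
  exact ⟨asIso ψ⟩

theorem exists_of_extends [IsAdicComplete I A] (U : (Spec (CommRingCat.of A)).Opens)
    {G₀ : ℕᵒᵖ ⥤ (U : Scheme.{u}).Modules} (e : G ⋙ Scheme.Modules.restrictFunctor U.ι ≅ G₀) :
    ∃ F : (U : Scheme.{u}).Modules, Coh.IsCoh F ∧ Nonempty (Formal.completion I F ≅ G₀) := by
  obtain ⟨M, hM, ⟨e₀⟩⟩ := exists_coh_iso_completion hG
  obtain ⟨e₁⟩ := exists_completion_restrict_iso (I := I) U M hM
  exact ⟨_, isCoh_restrict U.ι hM,
    ⟨e₁.symm ≪≫ Functor.isoWhiskerRight e₀ (Scheme.Modules.restrictFunctor U.ι) ≪≫ e⟩⟩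

end Groth.Agent.RlimMilnor.CohSys
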