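import Groth.Agent.SiteRlim.RlimSingle
import Groth.Agent.SiteRlim.MilnorSeq
import Mathlib.GroupTheory.QuotientGroup.Basic

/-!
# The Milnor sequence for `Ext` into the limit of a tower of sheaves
-/

set_option autoImplicit false
set_option linter.all false
set_option backward.isDefEq.respectTransparency false
set_option backward.defeqAttrib.useBackward true

universe w u

open CategoryTheory CategoryTheory.Limits CategoryTheory.Abelian Opposite DerivedCategory

namespace Groth.Agent.RlimMilnor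

open Groth.Agent Groth.Agent.SiteRlim

section Triangulated

variable {D : Type*} [Category* D] [Preadditive D] [HasZeroObject D] [HasShift D ℤ]
  [∀ n : ℤ, (shiftFunctor D n).Additive] [Pretriangulated D]
  {K : ℕ → D} {t : ∀ n, K (n + 1) ⟶ K n} [HasProduct K] {L : D} {a : ∀ n, L ⟶ K n}

lemma comp_t_of_isRlimVia (hL : CohCx.IsRlimVia K t L a) (n : ℕ) : a (n + 1) ≫ t n = a n := by
  obtain ⟨c, hT⟩ := hL
  have h : Pi.lift a ≫ (Pi.lift fun k => Pi.π K k - Pi.π K (k + 1) ≫ t k) = 0 :=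
    Pretriangulated.comp_distTriang_mor_zero₁₂ _ hT
  have := congrArg (fun p => p ≫ Pi.π K n) h
  simp only [Category.assoc, Pi.lift_π, Preadditive.comp_sub, zero_comp] at this
  rw [← Category.assoc, Pi.lift_π, sub_eq_zero] at this
  exact this.symm

variable (S : D)

/-- Maps into a shifted product are families of maps. -/
noncomputable def piShiftEquiv (r : ℤ) : (S ⟶ (∏ᶜ K)⟦r⟧) ≃+ ∀ n, S ⟶ (K n)⟦r⟧ :=
  { toFun := fun φ n => φ ≫ (Pi.π K n)⟦r⟧'
    invFun := fun x => (shAdj r).homEquiv S _ (Pi.lift fun n => ((shAdj r).homEquiv S (K n)).symm (x n))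
    left_inv := fun φ => by
      rw [← Equiv.eq_symm_apply]
      refine Pi.hom_ext _ _ fun n => ?_
      rw [Pi.lift_π, Adjunction.homEquiv_naturality_right_symm]
    right_inv := fun x => funext fun n => by
      show (shAdj r).homEquiv S _ _ ≫ (shiftFunctor D r).map (Pi.π K n) = x n
      rw [← Adjunction.homEquiv_naturality_right, Pi.lift_π, Equiv.apply_symm_apply]
    map_add' := fun φ ψ => funext fun n => Preadditive.add_comp _ _ _ _ _ _ }

/-- The difference map on families. -/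
noncomputable def famDiff (t : ∀ n, K (n + 1) ⟶ K n) (r : ℤ) : (∀ n, S ⟶ (K n)⟦r⟧) →+ ∀ n, S ⟶ (K n)⟦r⟧ :=
  AddMonoidHom.mk' (fun x n => x n - x (n + 1) ≫ (t n)⟦r⟧') (fun x y => funext fun n => by
    simp only [Pi.add_apply, Preadditive.add_comp]; abel)

lemma piShiftEquiv_diff (r : ℤ) (z : S ⟶ (∏ᶜ K)⟦r⟧) :
    piShiftEquiv S r (z ≫ (Pi.lift fun k => Pi.π K k - Pi.π K (k + 1) ≫ t k)⟦r⟧') =
      famDiff S t r (piShiftEquiv S r z) := by
  funext n
  show (z ≫ _⟦r⟧') ≫ (Pi.π K n)⟦r⟧' = z ≫ (Pi.π K n)⟦r⟧' - (z ≫ (Pi.π K (n + 1))⟦r⟧') ≫ (t n)⟦r⟧'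
  rw [Category.assoc, ← Functor.map_comp, Pi.lift_π, Functor.map_sub, Functor.map_comp, Preadditive.comp_sub,
    Category.assoc]

theorem exists_boundary (hL : CohCx.IsRlimVia K t L a) (r m : ℤ) (hrm : r + 1 = m) :
    ∃ δ : (∀ n, S ⟶ (K n)⟦r⟧) →+ (S ⟶ L⟦m⟧),
      (∀ y : S ⟶ L⟦m⟧, (∀ n, y ≫ (a n)⟦m⟧' = 0) ↔ y ∈ δ.range) ∧ δ.ker = (famDiff S t r).range := by
  obtain ⟨c, hT⟩ := hL
  have hsh := Pretriangulated.Triangle.shift_distinguished _ hT r
  let T := (Pretriangulated.Triangle.shiftFunctor D r).obj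
    (Pretriangulated.Triangle.mk (Pi.lift a) (Pi.lift fun k => Pi.π K k - Pi.π K (k + 1) ≫ t k) c)
  let e : (L⟦r⟧)⟦(1 : ℤ)⟧ ≅ L⟦m⟧ := ((shiftFunctorAdd' D r 1 m hrm).app L).symm
  let η : (∏ᶜ K)⟦r⟧ ⟶ (L⟦r⟧)⟦(1 : ℤ)⟧ := T.mor₃
  let δ₀ : (S ⟶ (∏ᶜ K)⟦r⟧) →+ (S ⟶ L⟦m⟧) :=
    AddMonoidHom.mk' (fun z => z ≫ η ≫ e.hom) (fun _ _ => Preadditive.add_comp _ _ _ _ _ _)
  refine ⟨δ₀.comp (piShiftEquiv S r).symm.toAddMonoidHom, fun y => ?_, ?_⟩
  · have hnat : ∀ y' : S ⟶ (L⟦r⟧)⟦(1 : ℤ)⟧, y' ≫ (T.mor₁)⟦(1 : ℤ)⟧' = 0 ↔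
        ∀ n, (y' ≫ e.hom) ≫ (a n)⟦m⟧' = 0 := fun y' => by
      let ν := shiftFunctorAdd' D r 1 m hrm
      have hn : e.hom ≫ (Pi.lift a)⟦m⟧' = ((Pi.lift a)⟦r⟧')⟦(1 : ℤ)⟧' ≫ ν.inv.app (∏ᶜ K) :=
        (ν.inv.naturality (Pi.lift a)).symm
      constructor
      · intro h n
        have h' : y' ≫ ((Pi.lift a)⟦r⟧')⟦(1 : ℤ)⟧' = 0 := by
          have h1 : y' ≫ (r.negOnePow • (Pi.lift a)⟦r⟧')⟦(1 : ℤ)⟧' = 0 := h
          rw [Functor.map_units_smul, Linear.comp_units_smul] at h1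
          exact (smul_eq_zero_iff_eq _).1 h1
        rw [← Pi.lift_π a n, Functor.map_comp, Category.assoc, reassoc_of% hn, reassoc_of% h']
        simp
      · intro h
        have h' : (y' ≫ e.hom) ≫ (Pi.lift a)⟦m⟧' = 0 := by
          apply (piShiftEquiv S m).injective
          rw [map_zero]
          funext n
          show ((y' ≫ e.hom) ≫ _) ≫ (Pi.π K n)⟦m⟧' = 0
          rw [Category.assoc, ← Functor.map_comp, Pi.lift_π]
          exact h n
        rw [Category.assoc, hn, ← Category.assoc] at h'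
        show y' ≫ (r.negOnePow • (Pi.lift a)⟦r⟧')⟦(1 : ℤ)⟧' = 0
        rw [Functor.map_units_smul, Linear.comp_units_smul, (cancel_mono (ν.inv.app (∏ᶜ K))).1 (h'.trans zero_comp.symm),
          smul_zero]
    constructor
    · intro hy
      obtain ⟨z, hz⟩ := Pretriangulated.Triangle.coyoneda_exact₁ T hsh (y ≫ e.inv)
        ((hnat _).2 (fun n => (congrArg (· ≫ (a n)⟦m⟧') (show (y ≫ e.inv) ≫ e.hom = y by rw [Category.assoc, e.inv_hom_id, Category.comp_id])).trans (hy n)))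
      refine ⟨piShiftEquiv S r z, ?_⟩
      show ((piShiftEquiv S r).symm (piShiftEquiv S r z)) ≫ η ≫ e.hom = y
      rw [AddEquiv.symm_apply_apply, ← Category.assoc]
      exact (congrArg (· ≫ e.hom) hz.symm).trans (by rw [Category.assoc, e.inv_hom_id, Category.comp_id])
    · rintro ⟨x, rfl⟩ n
      show ((((piShiftEquiv S r).symm x) ≫ η ≫ e.hom)) ≫ _ = 0
      have h31 : η ≫ (T.mor₁)⟦(1 : ℤ)⟧' = 0 := Pretriangulated.comp_distTriang_mor_zero₃₁ T hsh
      have := (hnat (((piShiftEquiv S r).symm x) ≫ η)).1 (by rw [Category.assoc, h31, comp_zero]) n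
      simpa only [Category.assoc] using this
  · refine SetLike.ext fun x => ?_
    rw [AddMonoidHom.mem_ker]
    show ((piShiftEquiv S r).symm x) ≫ η ≫ e.hom = 0 ↔ _
    constructor
    · intro h
      have h0 : ((piShiftEquiv S r).symm x) ≫ T.mor₃ = 0 := by
        rw [← cancel_mono e.hom, Category.assoc, zero_comp]
        exact h
      obtain ⟨z, hz⟩ := Pretriangulated.Triangle.coyoneda_exact₃ T hsh _ h0
      refine ⟨piShiftEquiv S r (r.negOnePow • z), ?_⟩
      rw [← piShiftEquiv_diff]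
      refine (piShiftEquiv S r).symm.injective ?_
      rw [AddEquiv.symm_apply_apply, hz]
      show (r.negOnePow • z) ≫ _ = z ≫ (r.negOnePow • _)
      exact (Linear.units_smul_comp _ _ _).trans (Linear.comp_units_smul _ _ _).symm
    · rintro ⟨z, rfl⟩
      obtain ⟨z, rfl⟩ := (piShiftEquiv S r).surjective z
      rw [← piShiftEquiv_diff, AddEquiv.symm_apply_apply]
      have h23 : (r.negOnePow • (Pi.lift fun k => Pi.π K k - Pi.π K (k + 1) ≫ t k)⟦r⟧') ≫ η = 0 :=
        Pretriangulated.comp_distTriang_mor_zero₂₃ T hsh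
      rw [Linear.units_smul_comp] at h23
      rw [Category.assoc, reassoc_of% ((smul_eq_zero_iff_eq _).1 h23)]
      simp

end Triangulated

section Sheaves

variable {C : Type u} [SmallCategory C] {J : GrothendieckTopology C}
  [HasDerivedCategory.{w} (Sheaf J AddCommGrpCat.{u})]

/-- The limit of a tower with vanishing on a basis is the derived limit, with the projections. -/
theorem isRlimVia_limit (F : ℕᵒᵖ ⥤ Sheaf J AddCommGrpCat.{u})
    [HasProduct fun n : ℕ => (singleFunctor (Sheaf J AddCommGrpCat.{u}) 0).obj (F.obj (op n))] (B : Set C)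
    (hB : ∀ U : C, ∃ (ι : Type u) (Y : ι → C) (f : ∀ i, Y i ⟶ U), Sieve.ofArrows Y f ∈ J U ∧ ∀ i, Y i ∈ B)
    (h1 : ∀ U ∈ B, ∀ (p n : ℕ), Subsingleton (CohSite.HU (F.obj (op n)) (p + 1) U))
    (h2 : ∀ U ∈ B, CohCx.LimOneIsZero (fun n => (F.obj (op n)).obj.obj (op U))
      (fun n => ((F.map (homOfLE (Nat.le_succ n)).op).hom.app (op U)).hom)) :
    CohCx.IsRlimVia (fun n => (singleFunctor _ 0).obj (F.obj (op n)))
      (fun n => (singleFunctor _ 0).map (F.map (homOfLE (Nat.le_succ n)).op))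
      ((singleFunctor _ 0).obj (limit F)) (fun n => (singleFunctor _ 0).map (limit.π F (op n))) := by
  let T := freeTestSys J
  let G : ℕ → Sheaf J AddCommGrpCat.{u} := fun n => F.obj (op n)
  let t : ∀ n, G (n + 1) ⟶ G n := fun n => F.map (homOfLE (Nat.le_succ n)).op
  let K : ℕ → DerivedCategory (Sheaf J AddCommGrpCat.{u}) := fun n => (singleFunctor _ 0).obj (G n)
  let t' : ∀ n, K (n + 1) ⟶ K n := fun n => (singleFunctor _ 0).map (t n)
  haveI : HasProduct K := inferInstanceAs (HasProduct fun n : ℕ => (singleFunctor (Sheaf J AddCommGrpCat.{u}) 0).obj (F.obj (op n)))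
  have hac : ∀ n, ∀ V ∈ B, Acyc.{w, u} T V (K n) := fun n V hV q k => by
    by_cases hq : q = 0
    · subst hq
      exact subsingleton_ext_of_iso (DerCat.homologySingleIso 0 (G n)).symm _ (h1 V hV k n)
    · exact subsingleton_ext_of_isZero (DerCat.isZero_homology_single 0 q hq (G n)) _
  have hlim : ∀ q : ℤ, ∀ V ∈ B, ∀ v : ∀ n, T.P.obj V ⟶ (homologyFunctor _ q).obj (K n),
      ∃ z : ∀ n, T.P.obj V ⟶ (homologyFunctor _ q).obj (K n),
        ∀ n, z n - z (n + 1) ≫ (homologyFunctor _ q).map (t' n) = v n := by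
    intro q V hV v
    by_cases hq : q = 0
    · subst hq
      let e := fun n => DerCat.homologySingleIso 0 (G n)
      obtain ⟨z, hz⟩ := hlim_of_sections G t V (h2 V hV) (fun n => v n ≫ (e n).hom)
      refine ⟨fun n => z n ≫ (e n).inv, fun n => ?_⟩
      rw [← cancel_mono (e n).hom, ← hz n, Preadditive.sub_comp, Category.assoc, Category.assoc, Iso.inv_hom_id,
        Category.comp_id]
      congr 1
      rw [Category.assoc]
      congr 1
      rw [Iso.inv_comp_eq]
      exact (singleFunctorCompHomologyFunctorIso _ 0).hom.naturality (t n)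
    · exact ⟨fun _ => 0, fun n => (DerCat.isZero_homology_single 0 q hq (G n)).eq_of_tgt _ _⟩
  obtain ⟨L, a, hL⟩ := exists_isRlimVia K t'
  have hcomp : ∀ n, a (n + 1) ≫ t' n = a n := comp_t_of_isRlimVia hL
  let c := fun q : ℤ => seqCone (fun n => (homologyFunctor _ q).obj (K n))
    (fun n => (homologyFunctor _ q).map (t' n)) (fun n => (homologyFunctor _ q).map (a n))
    (fun n => by rw [← Functor.map_comp, hcomp])
  have hHD : ∀ q, IsIso (limit.lift _ (c q)) := fun q =>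
    isIso_homology_to_limit.{w, u} T hB K t' a q hac (hlim (q - 1)) hL (limit.lift _ (c q))
      (fun n => limit.lift_π (c q) _)
  have hz : ∀ q, q ≠ 0 → IsZero ((homologyFunctor _ q).obj L) := fun q hq => by
    haveI := hHD q
    refine IsZero.of_iso ?_ (asIso (limit.lift _ (c q)))
    rw [IsZero.iff_id_eq_zero]
    exact limit.hom_ext fun ⟨n⟩ => (DerCat.isZero_homology_single 0 q hq (G n)).eq_of_tgt _ _
  haveI : L.IsGE 0 := (DerivedCategory.isGE_iff _ _).2 fun q hq => hz q (by omega)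
  haveI : L.IsLE 0 := (DerivedCategory.isLE_iff _ _).2 fun q hq => hz q (by omega)
  obtain ⟨eL⟩ := DerCat.exists_iso_single_homology L 0
  let sF := singleFunctor (Sheaf J AddCommGrpCat.{u}) 0
  let g : ∀ n, (homologyFunctor _ 0).obj L ⟶ G n := fun n => sF.preimage (eL.inv ≫ a n)
  have hg : ∀ n, g (n + 1) ≫ t n = g n := fun n => sF.map_injective (by
    simp only [g, Functor.map_comp, Functor.map_preimage, Category.assoc]
    exact congrArg (eL.inv ≫ ·) (hcomp n))
  let φ : CohCx.opSequence (fun n => (homologyFunctor _ 0).obj (K n)) (fun n => (homologyFunctor _ 0).map (t' n)) ≅ F :=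
    NatIso.ofComponents (fun n => DerCat.homologySingleIso 0 (F.obj n))
      (fun {x y} f => by
        let ψ : CohCx.opSequence (fun n => (homologyFunctor _ 0).obj (K n)) (fun n => (homologyFunctor _ 0).map (t' n)) ⟶ F :=
          NatTrans.ofOpSequence (fun n => (DerCat.homologySingleIso 0 (G n)).hom) (fun n => by
            rw [Functor.ofOpSequence_map_homOfLE_succ]
            exact (singleFunctorCompHomologyFunctorIso _ 0).hom.naturality (t n))
        exact ψ.naturality f)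
  let cg : Cone F :=
    { pt := (homologyFunctor _ 0).obj L
      π := NatTrans.ofOpSequence (F := (Functor.const ℕᵒᵖ).obj _) (fun n => g n) (fun n => by
        rw [Functor.const_obj_map]
        exact (Category.id_comp (g n)).trans (hg n).symm) }
  let κ : (homologyFunctor _ 0).obj L ≅ (homologyFunctor _ 0).obj L :=
    (homologyFunctor _ 0).mapIso eL ≪≫ DerCat.homologySingleIso 0 _
  haveI : IsIso (limit.lift F cg) := by
    have h : limit.lift F cg = κ.inv ≫ limit.lift _ (c 0) ≫ (HasLimit.isoOfNatIso φ).hom := by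
      refine limit.hom_ext fun ⟨n⟩ => ?_
      rw [Category.assoc, Category.assoc, HasLimit.isoOfNatIso_hom_π, limit.lift_π_assoc, limit.lift_π,
        Iso.eq_inv_comp]
      show ((homologyFunctor _ 0).map eL.hom ≫ (DerCat.homologySingleIso 0 _).hom) ≫ g n =
        (homologyFunctor _ 0).map (a n) ≫ (DerCat.homologySingleIso 0 (G n)).hom
      have hn : (homologyFunctor _ 0).map (sF.map (g n)) ≫ (DerCat.homologySingleIso 0 (G n)).hom =
          (DerCat.homologySingleIso 0 _).hom ≫ g n :=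
        (singleFunctorCompHomologyFunctorIso _ 0).hom.naturality (g n)
      rw [Category.assoc, ← hn, ← Functor.map_comp_assoc]
      simp only [g, Functor.map_preimage, Iso.hom_inv_id_assoc]
    haveI := hHD 0
    rw [h]
    infer_instance
  let e : L ≅ sF.obj (limit F) := eL ≪≫ sF.mapIso (asIso (limit.lift F cg))
  refine isRlimVia_of_isIso K t' a hL (fun n => sF.map (limit.π F (op n))) e.inv (fun n => ?_)
  have h : (limit.lift F cg) ≫ limit.π F (op n) = g n := limit.lift_π cg (op n)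
  have h2 : sF.map (limit.π F (op n)) = sF.map (inv (limit.lift F cg)) ≫ sF.map (g n) := by
    rw [← Functor.map_comp, ← h, IsIso.inv_hom_id_assoc]
  simp [e, h2, g]

/-- `Ext` transition and difference maps. -/
noncomputable def extDiff (Z : Sheaf J AddCommGrpCat.{u}) (F : ℕᵒᵖ ⥤ Sheaf J AddCommGrpCat.{u}) (j : ℕ) :
    (∀ n : ℕ, Ext.{u} Z (F.obj (op n)) j) →+ ∀ n : ℕ, Ext.{u} Z (F.obj (op n)) j :=
  AddMonoidHom.mk' (fun x n => x n - (x (n + 1)).comp (Ext.mk₀ (F.map (homOfLE (Nat.le_succ n)).op)) (add_zero j))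
    (fun x y => funext fun n => by simp only [Pi.add_apply, Ext.add_comp]; abel)

theorem milnor (F : ℕᵒᵖ ⥤ Sheaf J AddCommGrpCat.{u})
    [HasProduct fun n : ℕ => (singleFunctor (Sheaf J AddCommGrpCat.{u}) 0).obj (F.obj (op n))] (B : Set C)
    (hB : ∀ U : C, ∃ (ι : Type u) (Y : ι → C) (f : ∀ i, Y i ⟶ U), Sieve.ofArrows Y f ∈ J U ∧ ∀ i, Y i ∈ B)
    (h1 : ∀ U ∈ B, ∀ (p n : ℕ), Subsingleton (CohSite.HU (F.obj (op n)) (p + 1) U))
    (h2 : ∀ U ∈ B, CohCx.LimOneIsZero (fun n => (F.obj (op n)).obj.obj (op U))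
      (fun n => ((F.map (homOfLE (Nat.le_succ n)).op).hom.app (op U)).hom))
    (Z : Sheaf J AddCommGrpCat.{u}) (i j : ℕ) (hij : j + 1 = i) :
    (∀ ξ : ∀ n : ℕ, Ext.{u} Z (F.obj (op n)) i,
      (∀ n, (ξ (n + 1)).comp (Ext.mk₀ (F.map (homOfLE (Nat.le_succ n)).op)) (add_zero i) = ξ n) →
        ∃ η : Ext.{u} Z (limit F) i, ∀ n, η.comp (Ext.mk₀ (limit.π F (op n))) (add_zero i) = ξ n) ∧
    ∃ δ : (∀ n : ℕ, Ext.{u} Z (F.obj (op n)) j) →+ Ext.{u} Z (limit F) i,
      (∀ y : Ext.{u} Z (limit F) i, (∀ n, y.comp (Ext.mk₀ (limit.π F (op n))) (add_zero i) = 0) ↔ y ∈ δ.range) ∧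
        δ.ker = (extDiff Z F j).range := by
  have hR := isRlimVia_limit.{w, u} F B hB h1 h2
  have hom_comp : ∀ {X Y W : Sheaf J AddCommGrpCat.{u}} {k : ℕ} (x : Ext.{u} X Y k) (f : Y ⟶ W),
      (x.comp (Ext.mk₀ f) (add_zero k)).hom = x.hom ≫ ((singleFunctor _ 0).map f)⟦(k : ℤ)⟧' := fun x f => by
    rw [Ext.comp_hom, Ext.mk₀_hom, ShiftedHom.comp_mk₀]
  constructor
  · intro ξ hξ
    obtain ⟨y, hy⟩ := exists_lift_family _ _ _ hR ((singleFunctor _ 0).obj Z) (i : ℤ) (fun n => (ξ n).hom)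
      (fun n => by rw [← hξ n, hom_comp])
    refine ⟨Ext.homEquiv.symm y, fun n => Ext.homEquiv.injective ?_⟩
    show (Ext.comp _ _ _).hom = (ξ n).hom
    rw [hom_comp, ← hy n]
    congr 1
    exact Ext.homEquiv.apply_symm_apply y
  · obtain ⟨δ, hδ1, hδ2⟩ := exists_boundary ((singleFunctor _ 0).obj Z) hR (j : ℤ) (i : ℤ) (by omega)
    let E : (∀ n : ℕ, Ext.{u} Z (F.obj (op n)) j) ≃+
        ∀ n : ℕ, (singleFunctor _ 0).obj Z ⟶ ((singleFunctor _ 0).obj (F.obj (op n)))⟦(j : ℤ)⟧ :=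
      AddEquiv.piCongrRight fun n => Ext.homAddEquiv
    have hE : ∀ x, E (extDiff Z F j x) = famDiff _ _ (j : ℤ) (E x) := fun x => funext fun n => by
      show (x n - (x (n + 1)).comp _ _).hom = (x n).hom - (x (n + 1)).hom ≫ _
      rw [← hom_comp, ← Ext.homAddEquiv_apply, ← Ext.homAddEquiv_apply, ← Ext.homAddEquiv_apply, map_sub]
    refine ⟨(Ext.homAddEquiv.symm.toAddMonoidHom.comp δ).comp E.toAddMonoidHom, fun y => ?_, ?_⟩
    · have h0 : ∀ n, (y.comp (Ext.mk₀ (limit.π F (op n))) (add_zero i) = 0) ↔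
          y.hom ≫ ((singleFunctor _ 0).map (limit.π F (op n)))⟦(i : ℤ)⟧' = 0 := fun n => by
        rw [← hom_comp, ← Ext.homAddEquiv_apply, EmbeddingLike.map_eq_zero_iff]
      rw [forall_congr' h0, hδ1]
      constructor
      · rintro ⟨x, hx⟩
        refine ⟨E.symm x, ?_⟩
        show Ext.homAddEquiv.symm (δ (E (E.symm x))) = y
        rw [E.apply_symm_apply, hx]
        exact Ext.homAddEquiv.symm_apply_apply y
      · rintro ⟨x, rfl⟩
        exact ⟨E x, (Ext.homAddEquiv.apply_symm_apply _).symm⟩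
    · refine SetLike.ext fun x => ?_
      show Ext.homAddEquiv.symm (δ (E x)) = 0 ↔ _
      rw [EmbeddingLike.map_eq_zero_iff, ← AddMonoidHom.mem_ker, hδ2]
      constructor
      · rintro ⟨z, hz⟩
        exact ⟨E.symm z, E.injective (by rw [hE, E.apply_symm_apply, hz])⟩
      · rintro ⟨z, rfl⟩
        exact ⟨E z, (hE z).symm⟩

end Sheaves

end Groth.Agent.RlimMilnor
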