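import Groth.Agent.RlimMilnor.Restrict

/-!
# Sections of canonically extendable systems
-/

set_option autoImplicit false
set_option linter.all false
set_option backward.isDefEq.respectTransparency false

universe u

open CategoryTheory CategoryTheory.Limits Opposite AlgebraicGeometry
open Groth.Agent.FormalFun Groth.Agent.QCohBase

namespace Groth.Agent.RlimMilnor.CohSys

section Modules

variable {A : Type u} [CommRing A] {S M : ℕᵒᵖ ⥤ ModuleCat.{u} A} {m : ℕ → ℕ} {hm : Monotone m}
  {a : DerCA.reindex S hm ⟶ M}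

lemma surjective_app (ha : DerCA.IsProIso a) (hM : ∀ {i j : ℕ} (h : i ≤ j), Function.Surjective (ARSys.tr M h))
    (n : ℕ) : Function.Surjective (a.app (op n)) := fun y => by
  obtain ⟨k, hk, b, -, hb⟩ := ha n
  obtain ⟨z, rfl⟩ := hM hk y
  exact ⟨b z, (ConcreteCategory.congr_hom hb z)⟩

lemma exists_back (ha : DerCA.IsProIso a) (hle : ∀ n, n ≤ m n) (n : ℕ) :
    ∃ (k : ℕ) (hk : n ≤ k) (c : M.obj (op k) ⟶ S.obj (op n)),
      a.app (op k) ≫ c = S.map (homOfLE (hk.trans (hle k))).op := by
  obtain ⟨k, hk, b, hb, -⟩ := ha n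
  refine ⟨k, hk, b ≫ S.map (homOfLE (hle n)).op, ?_⟩
  rw [← Category.assoc, hb]
  show S.map _ ≫ S.map _ = _
  rw [← S.map_comp]
  rfl

theorem exists_stable_image (ha : DerCA.IsProIso a) (hle : ∀ n, n ≤ m n)
    (hM : ∀ {i j : ℕ} (h : i ≤ j), Function.Surjective (ARSys.tr M h)) (n : ℕ) :
    ∃ r : ℕ, ∃ hr : n ≤ r, ∀ (s : ℕ) (hs : r ≤ s),
      LinearMap.range (S.map (homOfLE (hr.trans hs)).op).hom = LinearMap.range (S.map (homOfLE hr).op).hom := by
  obtain ⟨k, hk, c, hc⟩ := exists_back ha hle n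
  refine ⟨m k, hk.trans (hle k), fun s hs => le_antisymm ?_ ?_⟩
  · rintro _ ⟨x, rfl⟩
    refine ⟨S.map (homOfLE hs).op x, ?_⟩
    rw [← ConcreteCategory.comp_apply, ← S.map_comp]
    rfl
  · rintro _ ⟨x, rfl⟩
    have hj : k ≤ max k s := le_max_left _ _
    obtain ⟨y, hy⟩ := hM hj (a.app (op k) x)
    obtain ⟨w, hw⟩ := surjective_app ha hM (max k s) y
    refine ⟨S.map (homOfLE ((le_max_right k s).trans (hle _))).op w, ?_⟩
    have h1 : a.app (op k) (S.map (homOfLE (hm hj)).op w) = a.app (op k) x := by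
      rw [← hy, ← hw]
      exact ConcreteCategory.congr_hom (a.naturality (homOfLE hj).op) w
    have h2 : ∀ z, S.map (homOfLE (hk.trans (hle k))).op z = c (a.app (op k) z) := fun z =>
      (ConcreteCategory.congr_hom hc z).symm
    rw [h2 x, ← h1, ← h2, ← ConcreteCategory.comp_apply, ← S.map_comp, ← ConcreteCategory.comp_apply,
      ← S.map_comp]
    rfl

theorem exists_ker_le (ha : DerCA.IsProIso a) (hle : ∀ n, n ≤ m n)
    (hM : ∀ {i j : ℕ} (h : i ≤ j), Function.Surjective (ARSys.tr M h)) (I : Ideal A) (k : ℕ) (N : ℕ)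
    (hker : LinearMap.ker (limit.π M (op N)).hom ≤ I ^ k • (⊤ : Submodule A ↑(limit M))) :
    ∃ n : ℕ, LinearMap.ker (limit.π S (op n)).hom ≤ I ^ k • (⊤ : Submodule A ↑(limit S)) := by
  choose κ hκ c hc using fun n => exists_back ha hle n
  have hepi : ∀ j, Epi (a.app (op j)) := fun j => (ModuleCat.epi_iff_surjective _).2 (surjective_app ha hM j)
  let T : Cone S :=
    { pt := limit M
      π := NatTrans.ofOpSequence (F := (Functor.const ℕᵒᵖ).obj (limit M))
        (fun n => limit.π M (op (κ n)) ≫ c n) (fun n => by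
          have h1 := le_max_left (κ n) (κ (n + 1))
          have h2 := le_max_right (κ n) (κ (n + 1))
          refine (Category.id_comp _).trans ?_
          refine Eq.trans ?_ (Category.assoc _ _ _).symm
          rw [← limit.w M (homOfLE h1).op, ← limit.w M (homOfLE h2).op, Category.assoc, Category.assoc]
          congr 1
          haveI := hepi (max (κ n) (κ (n + 1)))
          rw [← cancel_epi (a.app (op (max (κ n) (κ (n + 1)))))]
          have e1 := a.naturality (homOfLE h1).op
          have e2 := a.naturality (homOfLE h2).op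
          refine Eq.trans (b := S.map (homOfLE (((hκ n).trans h1).trans (hle _))).op) ?_ (Eq.symm ?_)
          · refine ((Category.assoc _ _ _).symm.trans (congrArg (· ≫ c n) e1.symm)).trans ?_
            refine (Category.assoc _ _ _).trans ?_
            refine (congrArg (_ ≫ ·) (hc n)).trans ?_
            show S.map _ ≫ S.map _ = S.map _
            rw [← S.map_comp]
            rfl
          · refine ((Category.assoc _ _ _).symm.trans (congrArg (· ≫ _) e2.symm)).trans ?_
            refine (Category.assoc _ _ _).trans ?_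
            refine (congrArg (_ ≫ ·) ((Category.assoc _ _ _).symm.trans (congrArg (· ≫ _) (hc (n + 1))))).trans ?_
            show S.map _ ≫ S.map _ ≫ S.map _ = S.map _
            rw [← S.map_comp, ← S.map_comp]
            rfl) }
  let T' : Cone M :=
    { pt := limit S
      π :=
        { app := fun n => limit.π S (op (m n.unop)) ≫ a.app n
          naturality := fun x y g => by
            show 𝟙 _ ≫ limit.π S _ ≫ a.app y = (limit.π S _ ≫ a.app x) ≫ M.map g
            rw [Category.id_comp, Category.assoc, ← a.naturality]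
            show limit.π S _ ≫ a.app y = limit.π S _ ≫ S.map _ ≫ a.app y
            rw [limit.w_assoc] } }
  let θ : limit M ⟶ limit S := limit.lift S T
  let ψ : limit S ⟶ limit M := limit.lift M T'
  have hθψ : ψ ≫ θ = 𝟙 _ := limit.hom_ext fun ⟨n⟩ => by
    rw [Category.assoc, Category.id_comp, limit.lift_π]
    show ψ ≫ limit.π M (op (κ n)) ≫ c n = _
    rw [limit.lift_π_assoc]
    show (limit.π S _ ≫ a.app _) ≫ c n = _
    rw [Category.assoc, hc n, limit.w]
  refine ⟨m N, fun x hx => ?_⟩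
  have hy : ψ x ∈ I ^ k • (⊤ : Submodule A ↑(limit M)) := hker (by
    rw [LinearMap.mem_ker]
    show (ψ ≫ limit.π M (op N)) x = 0
    rw [limit.lift_π]
    show a.app (op N) (limit.π S (op (m N)) x) = 0
    rw [show (limit.π S (op (m N))) x = 0 from hx, map_zero])
  have : θ (ψ x) ∈ I ^ k • (⊤ : Submodule A ↑(limit S)) := by
    have h := Submodule.mem_map_of_mem (f := θ.hom) hy
    rw [Submodule.map_smul''] at h
    exact Submodule.smul_mono le_rfl le_top h
  rwa [← ConcreteCategory.comp_apply, hθψ] at this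

end Modules

section Affine

variable {A : Type u} [CommRing A] {I : Ideal A}

noncomputable local instance : (Spec (CommRingCat.of A)).Over (Spec (CommRingCat.of A)) := ⟨𝟙 _⟩

noncomputable abbrev ΓF (A : Type u) [CommRing A] : (Spec (CommRingCat.of A)).Modules ⥤ ModuleCat.{u} A :=
  moduleSpecΓFunctor (R := CommRingCat.of A)

lemma sect_top_smul (M : (Spec (CommRingCat.of A)).Modules) (a : A) (s : (ΓF A).obj M) :
    act A (⊤ : (Spec (CommRingCat.of A)).Opens) M a s = (a • s : (ΓF A).obj M) := by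
  show ores (le_top : (⊤ : (Spec (CommRingCat.of A)).Opens) ≤ ⊤) (gl (X := Spec (CommRingCat.of A)) A a : Γ(Spec (CommRingCat.of A), ⊤)) •
    (show Γ(M, ⊤) from s) = ((Scheme.ΓSpecIso (CommRingCat.of A)).inv a) • (show Γ(M, ⊤) from s)
  congr 1

lemma surjective_Γ {G : ℕᵒᵖ ⥤ (Spec (CommRingCat.of A)).Modules} (hG : Formal.IsCohFormal I G)
    {i j : ℕ} (h : i ≤ j) : Function.Surjective (ARSys.tr (G ⋙ ΓF A) h) := by
  haveI := epi_tr hG h
  exact QCohBase.app_surjective_of_epi (G.map (homOfLE h).op) (hG.1 j).1 (hG.1 i).1 (isAffineOpen_top _)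

lemma ker_π_Γ_le [IsNoetherianRing A] {G : ℕᵒᵖ ⥤ (Spec (CommRingCat.of A)).Modules}
    (hG : Formal.IsCohFormal I G) (n : ℕ) :
    LinearMap.ker (limit.π (G ⋙ ΓF A) (op n)).hom ≤ I ^ (n + 1) • (⊤ : Submodule A ↑(limit (G ⋙ ΓF A))) := by
  haveI : PreservesLimit G (ΓF A) := (tilde.adjunction (R := CommRingCat.of A)).rightAdjoint_preservesLimits.preservesLimitsOfShape.preservesLimit
  intro x hx
  let e := preservesLimitIso (ΓF A) G
  obtain ⟨a, ha⟩ : ∃ (r : ℕ), ∃ a : Fin r → A, Ideal.span (Set.range a) = I ^ (n + 1) :=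
    Submodule.fg_iff_exists_fin_generating_family.1 (IsNoetherian.noetherian (I ^ (n + 1)))
  obtain ⟨b, hb⟩ := ha
  have hx' : (sect (⊤ : (Spec (CommRingCat.of A)).Opens)).map (limit.π G (op n)) (e.inv x) = 0 := by
    show ((ΓF A).map (limit.π G (op n))) (e.inv x) = 0
    rw [← ConcreteCategory.comp_apply, preservesLimitIso_inv_π]
    exact hx
  obtain ⟨y, hy⟩ := exists_eq_sum_of_proj_eq_zero (G := G) ⟨fun k => (hG.1 k).1, hG.2⟩
    (IsNoetherian.noetherian I) (isAffineOpen_top _) n b hb (e.inv x) hx'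
  have : x = ∑ j, b j • e.hom (y j) := by
    rw [← Iso.inv_hom_id_apply e x]
    refine (congrArg e.hom (hy.trans (Finset.sum_congr rfl fun j _ => sect_top_smul (limit G) (b j) (y j)))).trans ?_
    rw [map_sum]
    exact Finset.sum_congr rfl fun j _ => map_smul e.hom.hom _ _
  rw [this]
  exact Submodule.sum_mem _ fun j _ =>
    Submodule.smul_mem_smul (hb ▸ Ideal.subset_span ⟨j, rfl⟩) Submodule.mem_top

variable {U : (Spec (CommRingCat.of A)).Opens} {G : ℕᵒᵖ ⥤ (U : Scheme.{u}).Modules}

lemma exists_proIso_sectMod (h : Algz.CanonicallyExtends A I U G) :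
    ∃ (G' : ℕᵒᵖ ⥤ (Spec (CommRingCat.of A)).Modules) (m : ℕ → ℕ) (hm : Monotone m) (_ : ∀ n, n ≤ m n)
      (a : DerCA.reindex (Algz.sectMod A U G) hm ⟶ G' ⋙ ΓF A),
      Formal.IsCohFormal I G' ∧ DerCA.IsProIso a := by
  obtain ⟨G', hG', hpro⟩ := h
  obtain ⟨m, hm, hle, a, ha⟩ := isProIsomorphic_map (ΓF A) hpro
    (Functor.isoWhiskerLeft (Algz.sectMod A U G) (tilde.toTildeΓNatIso (R := CommRingCat.of A)))
  exact ⟨G', m, hm, hle, a, hG', ha⟩

theorem exists_ker_le_of_canonicallyExtends [IsNoetherianRing A] (h : Algz.CanonicallyExtends A I U G) (k : ℕ) :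
    ∃ n : ℕ, LinearMap.ker (limit.π (Algz.sectMod A U G) (op n)).hom ≤
      I ^ k • (⊤ : Submodule A ↑(limit (Algz.sectMod A U G))) := by
  obtain ⟨G', m, hm, hle, a, hG', ha⟩ := exists_proIso_sectMod h
  exact exists_ker_le ha hle (fun h => surjective_Γ hG' h) I k k
    ((ker_π_Γ_le hG' k).trans (Submodule.smul_mono_left (Ideal.pow_le_pow_right (Nat.le_succ k))))

theorem exists_stable_image_of_canonicallyExtends (h : Algz.CanonicallyExtends A I U G) (n : ℕ) :
    ∃ r : ℕ, ∃ hr : n ≤ r, ∀ (s : ℕ) (hs : r ≤ s),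
      LinearMap.range ((Algz.sectMod A U G).map (homOfLE (hr.trans hs)).op).hom =
        LinearMap.range ((Algz.sectMod A U G).map (homOfLE hr).op).hom := by
  obtain ⟨G', m, hm, hle, a, hG', ha⟩ := exists_proIso_sectMod h
  exact exists_stable_image ha hle (fun h => surjective_Γ hG' h) n

end Affine

end Groth.Agent.RlimMilnor.CohSys
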