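import Groth.Agent.RlimMilnor.Algebraize

/-!
# Criterion for canonical extension
-/

set_option autoImplicit false
set_option linter.all false
set_option backward.isDefEq.respectTransparency false

universe u

open CategoryTheory CategoryTheory.Limits Opposite AlgebraicGeometry
open Groth.Agent.FormalFun Groth.Agent.QCohBase

namespace Groth.Agent.RlimMilnor.CohSys

section Modules

variable {A : Type u} [CommRing A] {S : ℕᵒᵖ ⥤ ModuleCat.{u} A}

lemma range_le_of_imageSubobject_eq {P Q N : ModuleCat.{u} A} (f : P ⟶ N) (g : Q ⟶ N)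
    (h : imageSubobject f = imageSubobject g) : LinearMap.range f.hom ≤ LinearMap.range g.hom := by
  rintro _ ⟨x, rfl⟩
  have hg : Function.Surjective (factorThruImageSubobject g) := by
    haveI : Epi (factorThruImageSubobject g) := inferInstance
    exact (ModuleCat.epi_iff_surjective _).1 inferInstance
  have hf : Subobject.Factors (imageSubobject g) f :=
    h ▸ imageSubobject_factors_comp_self (f := f) (𝟙 P) |> fun t => by simpa using t
  obtain ⟨y, hy⟩ := hg ((imageSubobject g).factorThru f hf x)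
  refine ⟨y, ?_⟩
  rw [← imageSubobject_arrow_comp g]
  show (imageSubobject g).arrow (factorThruImageSubobject g y) = _
  rw [hy]
  show ((imageSubobject g).factorThru f hf ≫ (imageSubobject g).arrow) x = _
  rw [Subobject.factorThru_arrow]

theorem exists_lift_of_stable (hs : ∀ n : ℕ, ∃ r : ℕ, ∃ hr : n ≤ r, ∀ (s : ℕ) (hs : r ≤ s),
      LinearMap.range (S.map (homOfLE (hr.trans hs)).op).hom = LinearMap.range (S.map (homOfLE hr).op).hom)
    (n : ℕ) : ∃ r : ℕ, ∃ hr : n ≤ r, ∀ x : S.obj (op r), ∃ y : ↑(limit S),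
      limit.π S (op n) y = S.map (homOfLE hr).op x := by
  choose r hr H using hs
  refine ⟨r n, hr n, fun x => ?_⟩
  have step : ∀ (d : ℕ) (u : S.obj (op (n + d))), u ∈ LinearMap.range (S.map (homOfLE (hr (n + d))).op).hom →
      ∃ v : S.obj (op (n + d + 1)), v ∈ LinearMap.range (S.map (homOfLE (hr (n + d + 1))).op).hom ∧
        S.map (homOfLE (Nat.le_succ (n + d))).op v = u := by
    intro d u hu
    have hs1 : r (n + d) ≤ max (r (n + d)) (r (n + d + 1)) := le_max_left _ _
    rw [← H (n + d) _ hs1] at hu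
    obtain ⟨z, hz⟩ := hu
    refine ⟨S.map (homOfLE ((hr (n + d + 1)).trans (le_max_right (r (n + d)) _))).op z,
      ⟨S.map (homOfLE (le_max_right (r (n + d)) _)).op z, ?_⟩, ?_⟩
    · rw [← ConcreteCategory.comp_apply, ← S.map_comp]
      rfl
    · refine Eq.trans ?_ hz
      rw [← ConcreteCategory.comp_apply, ← S.map_comp]
      rfl
  choose v hv1 hv2 using step
  let u : ∀ d, { u : S.obj (op (n + d)) // u ∈ LinearMap.range (S.map (homOfLE (hr (n + d))).op).hom } :=
    fun d => Nat.rec (motive := fun d => { u : S.obj (op (n + d)) //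
        u ∈ LinearMap.range (S.map (homOfLE (hr (n + d))).op).hom })
      ⟨S.map (homOfLE (hr n)).op x, x, rfl⟩ (fun d w => ⟨v d w.1 w.2, hv1 d w.1 w.2⟩) d
  let z : ∀ l, S.obj (op l) := fun l => S.map (homOfLE (Nat.le_add_left l n)).op (u l).1
  have htr : ∀ {i j k : ℕ} (h : i ≤ j) (h' : j ≤ k) (w : S.obj (op k)),
      S.map (homOfLE h).op (S.map (homOfLE h').op w) = S.map (homOfLE (h.trans h')).op w := fun h h' w => by
    rw [← ConcreteCategory.comp_apply, ← S.map_comp]
    rfl
  have hz : ∀ l, S.map (homOfLE (Nat.le_succ l)).op (z (l + 1)) = z l := fun l => by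
    show S.map _ (S.map _ (u (l + 1)).1) = S.map _ (u l).1
    rw [htr, ← hv2 l (u l).1 (u l).2, htr]
    rfl
  have hd : ∀ d, S.map (homOfLE (Nat.le_add_right n d)).op (u d).1 = S.map (homOfLE (hr n)).op x := fun d => by
    induction d with
    | zero =>
      show S.map (𝟙 (op n)) _ = _
      rw [S.map_id]
      rfl
    | succ d ih =>
      rw [← ih, ← hv2 d (u d).1 (u d).2, htr]
      rfl
  obtain ⟨l₀, hl₀⟩ := TowerLib.Compatible.exists_lift (S ⋙ forget₂ (ModuleCat.{u} A) AddCommGrpCat.{u}) (x := z) hz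
  refine ⟨(preservesLimitIso (forget₂ (ModuleCat.{u} A) AddCommGrpCat.{u}) S).inv l₀, ?_⟩
  refine (ConcreteCategory.congr_hom
    (preservesLimitIso_inv_π (forget₂ (ModuleCat.{u} A) AddCommGrpCat.{u}) S (op n)) l₀).trans ?_
  exact (hl₀ n).trans (hd n)

/-- The quotients of the limit. -/
noncomputable abbrev quotSys (I : Ideal A) (S : ℕᵒᵖ ⥤ ModuleCat.{u} A) : ℕᵒᵖ ⥤ ModuleCat.{u} A :=
  Functor.ofOpSequence (X := fun n => ModuleCat.of A (Formal2.quotPow A I ↑(limit S) n))
    (fun n => ModuleCat.ofHom (Formal2.quotPowTrans A I ↑(limit S) n))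

lemma quotSys_map (I : Ideal A) {i j : ℕ} (h : i ≤ j) (y : ↑(limit S)) :
    (quotSys I S).map (homOfLE h).op (Formal2.quotPowπ A I ↑(limit S) j y) = Formal2.quotPowπ A I ↑(limit S) i y := by
  induction j, h using Nat.le_induction with
  | base =>
    rw [show (homOfLE (le_refl i)).op = 𝟙 (op i) from rfl, CategoryTheory.Functor.map_id]
    rfl
  | succ j h ih =>
    rw [show (homOfLE (h.trans (Nat.le_succ j))).op = (homOfLE (Nat.le_succ j)).op ≫ (homOfLE h).op from rfl,
      Functor.map_comp, ConcreteCategory.comp_apply]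
    refine Eq.trans (congrArg _ ?_) ih
    rw [Functor.ofOpSequence_map_homOfLE_succ]
    rfl

theorem isProIsomorphic_quotSys (I : Ideal A)
    (hkill : ∀ (n : ℕ), ∀ a ∈ I ^ (n + 1), ∀ x : S.obj (op n), a • x = 0)
    (hlift : ∀ n : ℕ, ∃ r : ℕ, ∃ hr : n ≤ r, ∀ x : S.obj (op r), ∃ y : ↑(limit S),
      limit.π S (op n) y = S.map (homOfLE hr).op x)
    (hb : ∀ k : ℕ, ∃ n : ℕ, LinearMap.ker (limit.π S (op n)).hom ≤ I ^ k • (⊤ : Submodule A ↑(limit S))) :
    Algz.IsProIsomorphic S (quotSys I S) := by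
  choose N₀ hN₀ using hb
  choose r hr hy using hlift
  let N : ℕ → ℕ := fun n => n + (Finset.range (n + 1)).sup fun j => N₀ (j + 1)
  let m : ℕ → ℕ := fun n => n + (Finset.range (n + 1)).sup fun j => r (N j)
  have hsub : ∀ {i j : ℕ}, i ≤ j → Finset.range (i + 1) ⊆ Finset.range (j + 1) :=
    fun h => Finset.range_subset_range.2 (Nat.add_le_add_right h 1)
  have hNm : Monotone N := fun i j h => Nat.add_le_add h (Finset.sup_mono (hsub h))
  have hmm : Monotone m := fun i j h => Nat.add_le_add h (Finset.sup_mono (hsub h))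
  have hrm : ∀ n, r (N n) ≤ m n := fun n =>
    (Finset.le_sup (f := fun j => r (N j)) (Finset.mem_range.2 n.lt_succ_self)).trans (Nat.le_add_left _ _)
  have hNm' : ∀ n, N n ≤ m n := fun n => (hr (N n)).trans (hrm n)
  have htr : ∀ {i j : ℕ} (h : i ≤ j) (y : ↑(limit S)),
      S.map (homOfLE h).op (limit.π S (op j) y) = limit.π S (op i) y := fun h y =>
    ConcreteCategory.congr_hom (limit.w S (homOfLE h).op) y
  have hker : ∀ n, LinearMap.ker (limit.π S (op (N n))).hom ≤
      LinearMap.ker (Formal2.quotPowπ A I ↑(limit S) n) := fun n y hy' => by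
    rw [LinearMap.mem_ker]
    refine (Submodule.Quotient.mk_eq_zero _).2 (hN₀ (n + 1) ?_)
    have h : N₀ (n + 1) ≤ N n :=
      (Finset.le_sup (f := fun j => N₀ (j + 1)) (Finset.mem_range.2 n.lt_succ_self)).trans (Nat.le_add_left _ _)
    rw [LinearMap.mem_ker]
    exact (htr h y).symm.trans (by rw [show (limit.π S (op (N n))) y = 0 from hy', map_zero])
  have hex : ∀ n, ∃ a : S.obj (op (m n)) ⟶ ModuleCat.of A (Formal2.quotPow A I ↑(limit S) n),
      ∀ x y, limit.π S (op (N n)) y = S.map (homOfLE (hNm' n)).op x → a x = Formal2.quotPowπ A I ↑(limit S) n y := by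
    intro n
    have hx : ∀ x : S.obj (op (m n)), ∃ y, limit.π S (op (N n)) y = S.map (homOfLE (hNm' n)).op x := fun x => by
      obtain ⟨y, h⟩ := hy (N n) (S.map (homOfLE (hrm n)).op x)
      refine ⟨y, h.trans ?_⟩
      rw [← ConcreteCategory.comp_apply, ← S.map_comp]
      rfl
    choose y hy₁ using hx
    have huniq : ∀ x y', limit.π S (op (N n)) y' = S.map (homOfLE (hNm' n)).op x →
        Formal2.quotPowπ A I ↑(limit S) n (y x) = Formal2.quotPowπ A I ↑(limit S) n y' := fun x y' h => by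
      rw [← sub_eq_zero, ← map_sub]
      exact hker n (by rw [LinearMap.mem_ker, map_sub]; exact sub_eq_zero.2 ((hy₁ x).trans h.symm))
    refine ⟨ModuleCat.ofHom { toFun := fun x => Formal2.quotPowπ A I ↑(limit S) n (y x), map_add' := ?_, map_smul' := ?_ },
      fun x y' h => huniq x y' h⟩
    · intro x₁ x₂
      rw [← map_add]
      exact huniq _ _ (by rw [map_add, map_add, hy₁, hy₁])
    · intro c x
      rw [RingHom.id_apply, ← map_smul]
      exact huniq _ _ (by rw [map_smul, map_smul, hy₁])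
  choose a ha using hex
  have hay : ∀ n y, a n (limit.π S (op (m n)) y) = Formal2.quotPowπ A I ↑(limit S) n y := fun n y =>
    ha n _ y (htr _ y).symm
  have hy' : ∀ n (x : S.obj (op (m n))), ∃ y, limit.π S (op (N n)) y = S.map (homOfLE (hNm' n)).op x := fun n x => by
    obtain ⟨y, h⟩ := hy (N n) (S.map (homOfLE (hrm n)).op x)
    refine ⟨y, h.trans ?_⟩
    rw [← ConcreteCategory.comp_apply, ← S.map_comp]
    rfl
  refine ⟨m, hmm, fun n => Nat.le_add_right _ _,
    { app := fun n => a n.unop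
      naturality := fun X Y g => ?_ }, fun n => ?_⟩
  · obtain ⟨i⟩ := X; obtain ⟨j⟩ := Y
    have hji : j ≤ i := leOfHom g.unop
    obtain rfl : g = (homOfLE hji).op := Subsingleton.elim _ _
    ext x
    obtain ⟨y, h⟩ := hy' i x
    show a j (S.map (homOfLE (hmm hji)).op x) = (quotSys I S).map (homOfLE hji).op (a i x)
    rw [ha i x y h, quotSys_map I hji y]
    refine ha j _ y ?_
    rw [← htr (hNm hji) y, h, ← ConcreteCategory.comp_apply, ← S.map_comp, ← ConcreteCategory.comp_apply,
      ← S.map_comp]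
    rfl
  · have hnk : n ≤ m n := Nat.le_add_right _ _
    let b : ModuleCat.of A (Formal2.quotPow A I ↑(limit S) (m n)) ⟶ S.obj (op (m n)) :=
      ModuleCat.ofHom (Submodule.liftQ _ (limit.π S (op (m n))).hom (Submodule.smul_le.2 fun c hc y _ => by
        rw [LinearMap.mem_ker, map_smul]
        exact hkill _ c hc _))
    refine ⟨m n, hnk, b, ?_, ?_⟩
    · ext x
      obtain ⟨y, h⟩ := hy' (m n) x
      show b (a (m n) x) = S.map (homOfLE (hmm hnk)).op x
      rw [ha (m n) x y h]
      show limit.π S (op (m n)) y = _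
      have h1 : m n ≤ N (m n) := Nat.le_add_right _ _
      rw [← htr h1 y, h, ← ConcreteCategory.comp_apply, ← S.map_comp]
      rfl
    · ext q
      obtain ⟨y, rfl⟩ := Submodule.Quotient.mk_surjective _ q
      show a n (limit.π S (op (m n)) y) = (quotSys I S).map (homOfLE hnk).op (Formal2.quotPowπ A I ↑(limit S) (m n) y)
      rw [hay, quotSys_map I hnk y]

end Modules

section Affine

variable {A : Type u} [CommRing A] [IsNoetherianRing A] {I : Ideal A}

noncomputable local instance : (Spec (CommRingCat.of A)).Over (Spec (CommRingCat.of A)) := ⟨𝟙 _⟩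

theorem isCohFormal_tilde {Q : ℕᵒᵖ ⥤ ModuleCat.{u} A} (hfin : ∀ n, Module.Finite A (Q.obj (op n)))
    (hkill : ∀ (n : ℕ), ∀ a ∈ I ^ (n + 1), ∀ x : Q.obj (op n), a • x = 0)
    (hsurj : ∀ n, Function.Surjective (Q.map (homOfLE (Nat.le_succ n)).op).hom)
    (hker : ∀ n, LinearMap.ker (Q.map (homOfLE (Nat.le_succ n)).op).hom ≤
      I ^ (n + 1) • (⊤ : Submodule A ↑(Q.obj (op (n + 1))))) :
    Formal.IsCohFormal I (Q ⋙ tilde.functor (CommRingCat.of A)) := by
  let adj := tilde.adjunction (R := CommRingCat.of A)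
  haveI := Functor.preservesEpimorphisms_of_adjunction adj
  have hzero : ∀ (N : ModuleCat.{u} A) (Z : (Spec (CommRingCat.of A)).Modules)
      (f : (tilde.functor (CommRingCat.of A)).obj N ⟶ Z) (a : A) (x : N),
      Formal.smulMod A ((tilde.functor (CommRingCat.of A)).obj N) a ≫ f = 0 →
        (a • adj.homEquiv N Z f x : (ΓF A).obj Z) = 0 := fun N Z f a x h => by
    refine (homEquiv_smul_comp (adj.homEquiv N Z f) a x).symm.trans ?_
    rw [Equiv.symm_apply_apply, h, Adjunction.homEquiv_unit]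
    rfl
  refine isCohFormal_of_factor (fun n => ?_) (fun n a ha => ?_) (fun n => ?_) (fun n Z f hf => ?_)
  · haveI : Module.Finite (CommRingCat.of A) (Q.obj (op n)) := hfin n
    exact isCoh_tilde (R := CommRingCat.of A) (Q.obj (op n))
  · refine (adj.homEquiv _ _).injective ?_
    ext x
    show adj.homEquiv _ _ (Formal.smulMod A ((tilde.functor (CommRingCat.of A)).obj (Q.obj (op n))) a) x = _
    rw [← Category.comp_id (Formal.smulMod A ((tilde.functor (CommRingCat.of A)).obj (Q.obj (op n))) a),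
      ← (adj.homEquiv (Q.obj (op n)) _).symm_apply_apply (𝟙 _), homEquiv_smul_comp, ← map_smul,
      hkill n a ha x, map_zero, Adjunction.homEquiv_unit]
    rfl
  · haveI : Epi (Q.map (homOfLE (Nat.le_succ n)).op) := (ModuleCat.epi_iff_surjective _).2 (hsurj n)
    exact Functor.map_epi (tilde.functor (CommRingCat.of A)) _
  · have hle : LinearMap.ker (Q.map (homOfLE (Nat.le_succ n)).op).hom ≤
        LinearMap.ker (adj.homEquiv _ Z f).hom := (hker n).trans (Submodule.smul_le.2 fun a ha x _ => by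
      rw [LinearMap.mem_ker, map_smul]
      exact hzero _ _ f a x (hf a ha))
    obtain ⟨g, hg⟩ := exists_factor_mod _ (hsurj n) _ hle
    refine ⟨(adj.homEquiv _ _).symm g, ?_⟩
    exact ((adj.homEquiv_naturality_left_symm _ _).symm.trans (congrArg _ hg)).trans (Equiv.symm_apply_apply _ _)

variable {U : (Spec (CommRingCat.of A)).Opens} {G : ℕᵒᵖ ⥤ (U : Scheme.{u}).Modules}

lemma sectMod_kill (hG : Formal.IsCohFormal I G) (n : ℕ) (a : A) (ha : a ∈ I ^ (n + 1))
    (x : (Algz.sectMod A U G).obj (op n)) : a • x = 0 := by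
  have h0 : (Formal.smulMod A (G.obj (op n)) a).app (U.ι ⁻¹ᵁ ⊤) (show Γ(G.obj (op n), U.ι ⁻¹ᵁ ⊤) from x) = 0 := by
    rw [hG.2.1 n a ha]; rfl
  refine Eq.trans ?_ h0
  show (U.ι.app ⊤ ((Scheme.ΓSpecIso (CommRingCat.of A)).inv a)) • (show Γ(G.obj (op n), U.ι ⁻¹ᵁ ⊤) from x) =
    (ores (le_top : U.ι ⁻¹ᵁ ⊤ ≤ ⊤) (gl (X := U.toScheme) A a : Γ(U.toScheme, ⊤))) • (show Γ(G.obj (op n), U.ι ⁻¹ᵁ ⊤) from x)
  congr 1

theorem canonicallyExtends_of (hG : Formal.IsCohFormal I G)
    (ha : ARSys.IsML (Algz.sectMod A U G))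
    (hb : ∀ k : ℕ, ∃ n : ℕ, LinearMap.ker (limit.π (Algz.sectMod A U G) (op n)).hom ≤
      I ^ k • (⊤ : Submodule A ↑(limit (Algz.sectMod A U G))))
    (hc : ∀ n : ℕ, Module.Finite A ↥(LinearMap.range (limit.π (Algz.sectMod A U G) (op n)).hom)) :
    Algz.CanonicallyExtends A I U G := by
  set S := Algz.sectMod A U G
  have hlift := exists_lift_of_stable (S := S) fun n => by
    obtain ⟨r, hr⟩ := ha n
    refine ⟨n + r, Nat.le_add_right n r, fun s hs => ?_⟩
    obtain ⟨t, rfl⟩ := Nat.le.dest ((Nat.le_add_right n r).trans hs)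
    have h := hr t (by omega)
    exact le_antisymm (range_le_of_imageSubobject_eq _ _ h) (range_le_of_imageSubobject_eq _ _ h.symm)
  have hpro := isProIsomorphic_quotSys I (fun n a h x => sectMod_kill hG n a h x) hlift hb
  have hsucc : ∀ n, (quotSys I S).map (homOfLE (Nat.le_succ n)).op =
      ModuleCat.ofHom (Formal2.quotPowTrans A I ↑(limit S) n) := fun n => Functor.ofOpSequence_map_homOfLE_succ _ n
  refine ⟨quotSys I S ⋙ tilde.functor (CommRingCat.of A), isCohFormal_tilde (fun n => ?_) (fun n a ha x => ?_)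
    (fun n => ?_) (fun n => ?_),
    isProIsomorphic_map (tilde.functor (CommRingCat.of A)) hpro (Iso.refl _)⟩
  · obtain ⟨N, hN⟩ := hb (n + 1)
    haveI : Module.Finite A (↑(limit S) ⧸ LinearMap.ker (limit.π S (op N)).hom) :=
      haveI := hc N
      Module.Finite.equiv (LinearMap.quotKerEquivRange _).symm
    exact Module.Finite.of_surjective
      (Submodule.mapQ (LinearMap.ker (limit.π S (op N)).hom) (I ^ (n + 1) • (⊤ : Submodule A ↑(limit S))) LinearMap.id (by rwa [Submodule.comap_id]))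
      (fun q => by
        obtain ⟨y, rfl⟩ := Submodule.Quotient.mk_surjective _ q
        exact ⟨Submodule.Quotient.mk y, rfl⟩)
  · obtain ⟨y, rfl⟩ := Submodule.Quotient.mk_surjective _ x
    exact (Submodule.Quotient.mk_eq_zero _).2 (Submodule.smul_mem_smul ha Submodule.mem_top)
  · rw [hsucc]
    intro q
    obtain ⟨y, rfl⟩ := Submodule.Quotient.mk_surjective _ q
    exact ⟨Submodule.Quotient.mk y, rfl⟩
  · rw [hsucc]
    intro q hq
    obtain ⟨y, rfl⟩ := Submodule.Quotient.mk_surjective _ q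
    have hy : y ∈ I ^ (n + 1) • (⊤ : Submodule A ↑(limit S)) := (Submodule.Quotient.mk_eq_zero _).1 hq
    have h := Submodule.mem_map_of_mem (f := Formal2.quotPowπ A I ↑(limit S) (n + 1)) hy
    rw [Submodule.map_smul''] at h
    exact Submodule.smul_mono le_rfl le_top h

end Affine

end Groth.Agent.RlimMilnor.CohSys
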