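import Groth.Agent.RlimMilnor.TildeLim
import Groth.Prelude.Def_Formal2

/-!
# Finite models of a coherent formal system on an open of an affine scheme
-/

set_option autoImplicit false
set_option linter.all false
set_option backward.isDefEq.respectTransparency false

universe u

open CategoryTheory CategoryTheory.Limits Opposite AlgebraicGeometry
open Groth.Agent.FormalFun Groth.Agent.QCohBase

namespace Groth.Agent.RlimMilnor.CohSys

variable {A : Type u} [CommRing A]

noncomputable local instance : (Spec (CommRingCat.of A)).Over (Spec (CommRingCat.of A)) := ⟨𝟙 _⟩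

/-- tilde, restricted to an open. -/
noncomputable abbrev TU (U : (Spec (CommRingCat.of A)).Opens) : ModuleCat.{u} A ⥤ (U : Scheme.{u}).Modules :=
  tilde.functor (CommRingCat.of A) ⋙ Scheme.Modules.restrictFunctor U.ι

variable {U : (Spec (CommRingCat.of A)).Opens}

lemma mono_TU {M N : ModuleCat.{u} A} (i : M ⟶ N) [Mono i] : Mono ((TU U).map i) := by
  haveI : Mono ((tilde.functor (CommRingCat.of A)).map i) := mono_tilde_map (R := CommRingCat.of A) i
  exact mono_restrictMap _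

lemma epi_TU {M N : ModuleCat.{u} A} (p : M ⟶ N) [Epi p] : Epi ((TU U).map p) := by
  haveI := Functor.preservesEpimorphisms_of_adjunction
    ((tilde.adjunction (R := CommRingCat.of A)).comp (Scheme.Modules.restrictAdjunction U.ι))
  exact Functor.map_epi _ p

lemma TU_map_zero (M N : ModuleCat.{u} A) : (TU U).map (0 : M ⟶ N) = 0 := by
  let adj := (tilde.adjunction (R := CommRingCat.of A)).comp (Scheme.Modules.restrictAdjunction U.ι)
  refine (adj.homEquiv _ _).injective ?_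
  rw [Adjunction.homEquiv_unit, Adjunction.homEquiv_unit]
  refine (adj.unit.naturality (0 : M ⟶ N)).symm.trans ?_
  show (0 : M ⟶ N) ≫ _ = _
  rw [zero_comp]
  ext x
  rfl

lemma exists_pow_smul_eq_zero {X Y : ModuleCat.{u} A} (φ : X ⟶ Y) (h : (TU U).map φ = 0) (a : A)
    (ha : (PrimeSpectrum.basicOpen a : (Spec (CommRingCat.of A)).Opens) ≤ U) (x : X) :
    ∃ e : ℕ, a ^ e • φ x = 0 := by
  haveI := isLocalized_toOpen Y a
  let Da : (Spec (CommRingCat.of A)).Opens := PrimeSpectrum.basicOpen a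
  have hDa : U.ι ''ᵁ (U.ι ⁻¹ᵁ Da) = Da := by
    rw [Scheme.Hom.image_preimage_eq_opensRange_inf, Scheme.Opens.opensRange_ι, inf_eq_right.2 ha]
  have h0 : ∀ (W : (Spec (CommRingCat.of A)).Opens), W = U.ι ''ᵁ (U.ι ⁻¹ᵁ Da) →
      ∀ s, ((tilde.functor (CommRingCat.of A)).map φ).app W s = 0 := by
    rintro W rfl s
    show ((TU U).map φ).app (U.ι ⁻¹ᵁ Da) s = 0
    rw [h]
    rfl
  have h1 : tilde.toOpen (R := CommRingCat.of A) Y (PrimeSpectrum.basicOpen a) (φ x) = 0 := by
    rw [← tapp_toOpen φ a x]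
    exact h0 Da hDa.symm _
  obtain ⟨⟨_, e, rfl⟩, he⟩ := (IsLocalizedModule.eq_zero_iff (Submonoid.powers a)
    (tilde.toOpen (R := CommRingCat.of A) Y (PrimeSpectrum.basicOpen a)).hom).1 h1
  exact ⟨e, he⟩

lemma exists_pow_smul_mem [IsNoetherianRing A] {𝔞 : Ideal A} {X N : ModuleCat.{u} A} (L : Submodule A N)
    (j : X ⟶ N)
    (h : (TU (LocCoh.puncturedOpen A 𝔞)).map (j ≫ ModuleCat.ofHom L.mkQ : X ⟶ ModuleCat.of A (↥N ⧸ L)) = 0)
    (x : X) : ∃ m : ℕ, ∀ a ∈ 𝔞 ^ m, a • j x ∈ L := by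
  let J : Ideal A := Submodule.comap (LinearMap.toSpanSingleton A N (j x)) L
  have hr : 𝔞 ≤ J.radical := fun a ha => by
    obtain ⟨e, he⟩ := exists_pow_smul_eq_zero _ h a (fun p hp hp' => hp (hp' ha)) x
    refine ⟨e, ?_⟩
    show a ^ e • j x ∈ L
    rw [← Submodule.Quotient.mk_eq_zero, Submodule.Quotient.mk_smul]
    exact he
  obtain ⟨m, hm⟩ := Ideal.exists_pow_le_of_le_radical_of_fg hr (IsNoetherian.noetherian 𝔞)
  exact ⟨m, fun a ha => hm ha⟩

/-- A submodule which is everything on `U`. -/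
def Good (U : (Spec (CommRingCat.of A)).Opens) {S : ModuleCat.{u} A} (N : Submodule A S) : Prop :=
  IsIso ((TU U).map (ModuleCat.ofHom N.subtype : ModuleCat.of A N ⟶ S))

lemma epi_TU_of {X Y Q : ModuleCat.{u} A} (i : X ⟶ Y) (q : Y ⟶ Q) (hq : (TU U).map q = 0)
    (h : LinearMap.ker q.hom ≤ LinearMap.range i.hom) : Epi ((TU U).map i) := by
  refine Preadditive.epi_of_cancel_zero _ fun {Z} k hk => ?_
  let adj := (tilde.adjunction (R := CommRingCat.of A)).comp (Scheme.Modules.restrictAdjunction U.ι)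
  let R : ModuleCat.{u} A := ModuleCat.of A (LinearMap.range q.hom)
  let ρ : Y ⟶ R := ModuleCat.ofHom q.hom.rangeRestrict
  let r : R ⟶ Q := ModuleCat.ofHom (LinearMap.range q.hom).subtype
  have hρr : ρ ≫ r = q := by ext y; rfl
  have h0 : i ≫ adj.homEquiv _ _ k = adj.homEquiv _ _ 0 := by
    rw [← adj.homEquiv_naturality_left, hk]
  obtain ⟨g, hg⟩ := exists_factor_mod ρ q.hom.surjective_rangeRestrict (adj.homEquiv _ _ k) (fun y hy => by
    obtain ⟨x, rfl⟩ := h (LinearMap.mem_ker.2 (congrArg Subtype.val (LinearMap.mem_ker.1 hy)))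
    refine LinearMap.mem_ker.2 ((ConcreteCategory.congr_hom h0 x).trans ?_)
    rw [Adjunction.homEquiv_unit]
    rfl)
  haveI : Mono r := (ModuleCat.mono_iff_injective _).2 Subtype.val_injective
  haveI := mono_TU (U := U) r
  have hρ : (TU U).map ρ = 0 := by
    rw [← cancel_mono ((TU U).map r), zero_comp, ← (TU U).map_comp, hρr, hq]
  have : k = (TU U).map ρ ≫ (adj.homEquiv _ _).symm g := by
    rw [← adj.homEquiv_naturality_left_symm, hg]
    exact (Equiv.symm_apply_apply _ _).symm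
  rw [this, hρ, zero_comp]

lemma TU_mkQ_eq_zero {S' : ModuleCat.{u} A} {M : Submodule A S'} (hM : Good U M) :
    (TU U).map (ModuleCat.ofHom M.mkQ : S' ⟶ ModuleCat.of A (↥S' ⧸ M)) = 0 := by
  haveI : IsIso ((TU U).map (ModuleCat.ofHom M.subtype : ModuleCat.of A M ⟶ S')) := hM
  rw [← cancel_epi ((TU U).map (ModuleCat.ofHom M.subtype : ModuleCat.of A M ⟶ S')), comp_zero, ← (TU U).map_comp]
  rw [show (ModuleCat.ofHom M.subtype : ModuleCat.of A M ⟶ S') ≫ ModuleCat.ofHom M.mkQ = 0 by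
    ext y; exact (Submodule.Quotient.mk_eq_zero _).2 y.2]
  exact TU_map_zero _ _

lemma good_inf {S S' : ModuleCat.{u} A} (f : S ⟶ S') {N : Submodule A S} {M : Submodule A S'}
    (hN : Good U N) (hM : Good U M) : Good U (N ⊓ M.comap f.hom) := by
  set N' := N ⊓ M.comap f.hom with hN'
  let jN : ModuleCat.of A N ⟶ S := ModuleCat.ofHom N.subtype
  let q : ModuleCat.of A N ⟶ ModuleCat.of A (↥S' ⧸ M) :=
    jN ≫ (f ≫ (ModuleCat.ofHom M.mkQ : S' ⟶ ModuleCat.of A (↥S' ⧸ M)))
  let i : ModuleCat.of A N' ⟶ ModuleCat.of A N :=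
    ModuleCat.ofHom (Submodule.inclusion (inf_le_left : N' ≤ N))
  have hq : (TU U).map q = 0 := by
    rw [Functor.map_comp, Functor.map_comp, TU_mkQ_eq_zero hM, comp_zero, comp_zero]
  have hker : LinearMap.ker q.hom ≤ LinearMap.range i.hom := fun y hy =>
    ⟨⟨y.1, y.2, show f.hom y.1 ∈ M from (Submodule.Quotient.mk_eq_zero M).1 (LinearMap.mem_ker.1 hy)⟩, rfl⟩
  haveI : Mono i := (ModuleCat.mono_iff_injective _).2 (Submodule.inclusion_injective (inf_le_left : N' ≤ N))
  haveI := mono_TU (U := U) i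
  haveI := epi_TU_of i q hq hker
  haveI : IsIso ((TU U).map i) := isIso_of_mono_of_epi _
  haveI : IsIso ((TU U).map jN) := hN
  have hcomp : i ≫ jN = (ModuleCat.ofHom N'.subtype : ModuleCat.of A N' ⟶ S) := by ext x; rfl
  show IsIso ((TU U).map (ModuleCat.ofHom N'.subtype : ModuleCat.of A N' ⟶ S))
  rw [← hcomp, Functor.map_comp]
  infer_instance

section Exist

variable [IsNoetherianRing A] {I : Ideal A} {G : ℕᵒᵖ ⥤ (U : Scheme.{u}).Modules}

lemma exists_good (hG : Formal.IsCohFormal I G) (n : ℕ) :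
    ∃ N : Submodule A ↥((Algz.sectMod A U G).obj (op n)), N.FG ∧ Good U N := by
  obtain ⟨M, hM, ⟨e⟩⟩ := exists_iso_tilde_restrict_finite (F := G.obj (op n)) (hG.1 n)
  haveI : Module.Finite A M := hM
  let adj := (tilde.adjunction (R := CommRingCat.of A)).comp (Scheme.Modules.restrictAdjunction U.ι)
  let ε := (restrictSectSysIso U G (fun k => (hG.1 k.unop).1)).app (op n)
  let w : M ⟶ (Algz.sectMod A U G).obj (op n) := adj.homEquiv M (G.obj (op n)) e.inv
  have hw : (TU U).map w = e.inv ≫ ε.hom := by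
    have h1 : (TU U).map w ≫ adj.counit.app (G.obj (op n)) = e.inv :=
      (adj.homEquiv_counit _ _ _).symm.trans (Equiv.symm_apply_apply _ _)
    have h2 : adj.counit.app (G.obj (op n)) = ε.inv := by
      rw [Adjunction.comp_counit_app]
      simp [ε, restrictSectSysIso]
      rfl
    rw [← h1, h2]
    exact ((Category.assoc _ _ _).trans ((congrArg (_ ≫ ·) ε.inv_hom_id).trans (Category.comp_id _))).symm
  haveI : IsIso ((TU U).map w) := by
    rw [hw]; exact inferInstance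
  let N := LinearMap.range w.hom
  refine ⟨N, ?_, ?_⟩
  · show (LinearMap.range w.hom).FG
    rw [← Submodule.map_top]
    exact Module.Finite.fg_top.map _
  · have hf : (ModuleCat.ofHom w.hom.rangeRestrict : M ⟶ ModuleCat.of A N) ≫ ModuleCat.ofHom N.subtype = w := by
      ext y; rfl
    haveI : Mono (ModuleCat.ofHom N.subtype : ModuleCat.of A N ⟶ _) :=
      (ModuleCat.mono_iff_injective _).2 Subtype.val_injective
    haveI := mono_TU (U := U) (ModuleCat.ofHom N.subtype : ModuleCat.of A N ⟶ _)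
    haveI : Epi ((TU U).map (ModuleCat.ofHom N.subtype : ModuleCat.of A N ⟶ _)) := by
      refine epi_of_epi_fac (f := (TU U).map (ModuleCat.ofHom w.hom.rangeRestrict : M ⟶ ModuleCat.of A N))
        (h := (TU U).map w) ?_
      rw [← Functor.map_comp, hf]
    exact isIso_of_mono_of_epi _

lemma exists_models (hG : Formal.IsCohFormal I G) :
    ∃ M : ∀ n, Submodule A ↥((Algz.sectMod A U G).obj (op n)), (∀ n, (M n).FG) ∧ (∀ n, Good U (M n)) ∧
      ∀ n, ∀ x ∈ M (n + 1), (Algz.sectMod A U G).map (homOfLE (Nat.le_succ n)).op x ∈ M n := by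
  choose N hNfg hN using exists_good hG
  let M : ∀ n, { M : Submodule A ↥((Algz.sectMod A U G).obj (op n)) // M.FG ∧ Good U M } := fun n =>
    Nat.rec (motive := fun n => { M : Submodule A ↥((Algz.sectMod A U G).obj (op n)) // M.FG ∧ Good U M })
      ⟨N 0, hNfg 0, hN 0⟩
      (fun k Mk => ⟨N (k + 1) ⊓ Mk.1.comap ((Algz.sectMod A U G).map (homOfLE (Nat.le_succ k)).op).hom, by
        haveI : Module.Finite A (N (k + 1)) := Module.Finite.iff_fg.2 (hNfg (k + 1))
        haveI : IsNoetherian A (N (k + 1)) := inferInstance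
        exact ⟨(fg_of_le_fg (hNfg (k + 1)) inf_le_left), good_inf _ (hN (k + 1)) Mk.2.2⟩⟩) n
  exact ⟨fun n => (M n).1, fun n => (M n).2.1, fun n => (M n).2.2, fun n x hx => hx.2⟩
where
  fg_of_le_fg {A : Type u} [CommRing A] [IsNoetherianRing A] {S : Type u} [AddCommGroup S] [Module A S]
      {P Q : Submodule A S} (hQ : Q.FG) (h : P ≤ Q) : P.FG := by
    haveI : Module.Finite A Q := Module.Finite.iff_fg.2 hQ
    have hfg : (P.comap Q.subtype).FG := IsNoetherian.noetherian _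
    have := hfg.map Q.subtype
    rwa [Submodule.map_comap_subtype, inf_eq_right.2 h] at this

end Exist

lemma smulMod_comp_TU [IsNoetherianRing A] {X Y : ModuleCat.{u} A} (q : X ⟶ Y) (a : A) (hq : ∀ x, q (a • x) = 0) :
    Formal.smulMod A ((TU U).obj X) a ≫ (TU U).map q = 0 := by
  let adj := tilde.adjunction (R := CommRingCat.of A)
  have h3 : Formal.smulMod A ((tilde.functor (CommRingCat.of A)).obj X) a ≫
      (tilde.functor (CommRingCat.of A)).map q = 0 := by
    refine (adj.homEquiv _ _).injective ?_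
    ext y
    have h0 : adj.homEquiv X ((tilde.functor (CommRingCat.of A)).obj Y) 0 y = 0 := by
      rw [Adjunction.homEquiv_unit]; rfl
    refine Eq.trans ?_ h0.symm
    rw [← (adj.homEquiv _ _).symm_apply_apply ((tilde.functor (CommRingCat.of A)).map q)]
    refine (homEquiv_smul_comp _ a y).trans ?_
    rw [← map_smul, Adjunction.homEquiv_unit]
    refine (ConcreteCategory.congr_hom (adj.unit.naturality q).symm (a • y)).trans ?_
    exact (congrArg (adj.unit.app Y) (hq y)).trans (map_zero _)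
  have h4 := congrArg (fun t => (Scheme.Modules.restrictFunctor U.ι).map t) h3
  simp only [Functor.map_comp, restrict_smulMod] at h4
  refine h4.trans ?_
  haveI : (Scheme.Modules.restrictFunctor U.ι).Additive := Functor.additive_of_preserves_binary_products _
  exact Functor.map_zero _ _ _

theorem exists_model_aux [IsNoetherianRing A] (I 𝔞 : Ideal A)
    (F : ℕᵒᵖ ⥤ (↑(LocCoh.puncturedOpen A 𝔞) : Scheme.{u}).Modules) (hF : Formal.IsCohFormal I F)
    (S : ℕᵒᵖ ⥤ ModuleCat.{u} A) (hS : ∀ n, ∀ a ∈ I ^ (n + 1), ∀ x : S.obj (op n), a • x = 0)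
    (ε : F ≅ S ⋙ TU (LocCoh.puncturedOpen A 𝔞))
    (M : ∀ n, Submodule A ↥(S.obj (op n))) (hfg : ∀ n, (M n).FG)
    (hgood : ∀ n, Good (LocCoh.puncturedOpen A 𝔞) (M n))
    (hmap : ∀ n, ∀ x ∈ M (n + 1), S.map (homOfLE (Nat.le_succ n)).op x ∈ M n) :
    ∃ (M : ℕ → Type u) (_ : ∀ n, AddCommGroup (M n)) (_ : ∀ n, Module A (M n)) (g : ∀ n, M (n + 1) →ₗ[A] M n),
      (∀ n, Module.Finite A (M n)) ∧ (∀ n, I ^ (n + 1) • (⊤ : Submodule A (M n)) = ⊥) ∧
      (∀ n (x : M (n + 1)), g n x = 0 → ∃ m : ℕ, ∀ a ∈ 𝔞 ^ m, a • x ∈ I ^ (n + 1) • (⊤ : Submodule A (M (n + 1)))) ∧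
      (∀ n (y : M n), ∃ m : ℕ, ∀ a ∈ 𝔞 ^ m, a • y ∈ LinearMap.range (g n)) ∧
      Nonempty (F ≅ Functor.ofOpSequence
        (X := fun n => (Scheme.Modules.restrictFunctor (LocCoh.puncturedOpen A 𝔞).ι).obj (Formal2.tmod A (M n)))
        (fun n => (Scheme.Modules.restrictFunctor (LocCoh.puncturedOpen A 𝔞).ι).map (Formal2.tmodMap A (g n)))) := by
  let U := LocCoh.puncturedOpen A 𝔞
  let g : ∀ n, M (n + 1) →ₗ[A] M n := fun n =>
    (S.map (homOfLE (Nat.le_succ n)).op).hom.restrict (hmap n)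
  let inc : ∀ n, ModuleCat.of A (M n) ⟶ S.obj (op n) := fun n => ModuleCat.ofHom (M n).subtype
  haveI : ∀ n, IsIso ((TU U).map (inc n)) := fun n => hgood n
  let e : ∀ n, (TU U).obj (ModuleCat.of A (M n)) ≅ F.obj (op n) := fun n =>
    asIso ((TU U).map (inc n)) ≪≫ (ε.app (op n)).symm
  have he : ∀ n, (TU U).map (ModuleCat.ofHom (g n) : ModuleCat.of A (M (n + 1)) ⟶ ModuleCat.of A (M n)) ≫ (e n).hom =
      (e (n + 1)).hom ≫ tr F (Nat.le_succ n) := fun n => by
    have h1 : (ModuleCat.ofHom (g n) : ModuleCat.of A (M (n + 1)) ⟶ ModuleCat.of A (M n)) ≫ inc n =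
        inc (n + 1) ≫ S.map (homOfLE (Nat.le_succ n)).op := by ext x; rfl
    show _ ≫ ((TU U).map (inc n) ≫ ε.inv.app (op n)) = ((TU U).map (inc (n + 1)) ≫ ε.inv.app (op (n + 1))) ≫ _
    rw [← Category.assoc, ← Functor.map_comp, h1, Functor.map_comp, Category.assoc, Category.assoc]
    congr 1
    exact ε.inv.naturality (homOfLE (Nat.le_succ n)).op
  have hkill : ∀ n, ∀ a ∈ I ^ (n + 1), ∀ x : M n, a • x = 0 := fun n a ha x =>
    Subtype.ext (hS n a ha x.1)
  refine ⟨fun n => M n, inferInstance, inferInstance, g, fun n => Module.Finite.iff_fg.2 (hfg n), fun n => ?_,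
    fun n x hx => ?_, fun n y => ?_, ⟨?_⟩⟩
  · rw [eq_bot_iff, Submodule.smul_le]
    exact fun a ha x _ => (Submodule.mem_bot A).2 (hkill n a ha x)
  · let L : Submodule A (M (n + 1)) := I ^ (n + 1) • ⊤
    let q : ModuleCat.of A (M (n + 1)) ⟶ ModuleCat.of A (↥(M (n + 1)) ⧸ L) := ModuleCat.ofHom L.mkQ
    obtain ⟨u, hu⟩ := exists_factor hF (Nat.le_succ n) ((e (n + 1)).inv ≫ (TU U).map q) fun a ha => by
      rw [← Category.assoc, smulMod_naturality, Category.assoc]
      have hs : Formal.smulMod A ((TU U).obj (ModuleCat.of A (M (n + 1)))) a ≫ (TU U).map q = 0 :=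
        smulMod_comp_TU q a fun y => (Submodule.Quotient.mk_eq_zero _).2
          (Submodule.smul_mem_smul ha Submodule.mem_top)
      exact (congrArg (_ ≫ ·) hs).trans comp_zero
    let K := LinearMap.ker (g n)
    let ιK : ModuleCat.of A K ⟶ ModuleCat.of A (M (n + 1)) := ModuleCat.ofHom K.subtype
    have hq : (TU U).map q = (TU U).map (ModuleCat.ofHom (g n)) ≫ (e n).hom ≫ u := by
      rw [← Category.assoc, he, Category.assoc, hu, Iso.hom_inv_id_assoc]
    have hzero : (TU U).map (ιK ≫ q) = 0 := by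
      rw [Functor.map_comp, hq, ← Category.assoc, ← Functor.map_comp,
        show ιK ≫ ModuleCat.ofHom (g n) = 0 by ext y; exact congrArg Subtype.val y.2, TU_map_zero, zero_comp]
    exact exists_pow_smul_mem (N := ModuleCat.of A (M (n + 1))) L ιK hzero ⟨x, hx⟩
  · let L : Submodule A (M n) := LinearMap.range (g n)
    have h1 : (TU U).map (ModuleCat.ofHom (g n) : ModuleCat.of A (M (n + 1)) ⟶ ModuleCat.of A (M n)) ≫
        (TU U).map (ModuleCat.ofHom L.mkQ : ModuleCat.of A (M n) ⟶ ModuleCat.of A (↥(M n) ⧸ L)) = 0 := by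
      rw [← Functor.map_comp, show (ModuleCat.ofHom (g n) : ModuleCat.of A (M (n + 1)) ⟶ ModuleCat.of A (M n)) ≫
        ModuleCat.ofHom L.mkQ = 0 by ext z; exact (Submodule.Quotient.mk_eq_zero _).2 ⟨z, rfl⟩, TU_map_zero]
    haveI := epi_tr_succ hF n
    haveI : Epi ((TU U).map (ModuleCat.ofHom (g n) : ModuleCat.of A (M (n + 1)) ⟶ ModuleCat.of A (M n))) := by
      rw [show (TU U).map (ModuleCat.ofHom (g n) : ModuleCat.of A (M (n + 1)) ⟶ ModuleCat.of A (M n)) =
        (e (n + 1)).hom ≫ tr F (Nat.le_succ n) ≫ (e n).inv by rw [← Category.assoc, ← he, Category.assoc, Iso.hom_inv_id, Category.comp_id]]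
      infer_instance
    have h2 := (cancel_epi _).1 (h1.trans comp_zero.symm)
    exact exists_pow_smul_mem (N := ModuleCat.of A (M n)) L (𝟙 _) (by rw [Category.id_comp]; exact h2) y
  · let ψ : Functor.ofOpSequence
        (X := fun n => (Scheme.Modules.restrictFunctor U.ι).obj (Formal2.tmod A (M n)))
        (fun n => (Scheme.Modules.restrictFunctor U.ι).map (Formal2.tmodMap A (g n))) ⟶ F :=
      NatTrans.ofOpSequence (fun n => (e n).hom) (fun n => by
        rw [Functor.ofOpSequence_map_homOfLE_succ]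
        exact he n)
    haveI : ∀ k, IsIso (ψ.app k) := fun ⟨k⟩ => inferInstanceAs (IsIso (e k).hom)
    haveI := NatIso.isIso_of_isIso_app ψ
    exact (asIso ψ).symm

theorem exists_model [IsNoetherianRing A] (I 𝔞 : Ideal A)
    (F : ℕᵒᵖ ⥤ (↑(LocCoh.puncturedOpen A 𝔞) : Scheme.{u}).Modules) (hF : Formal.IsCohFormal I F) :
    ∃ (M : ℕ → Type u) (_ : ∀ n, AddCommGroup (M n)) (_ : ∀ n, Module A (M n)) (g : ∀ n, M (n + 1) →ₗ[A] M n),
      (∀ n, Module.Finite A (M n)) ∧ (∀ n, I ^ (n + 1) • (⊤ : Submodule A (M n)) = ⊥) ∧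
      (∀ n (x : M (n + 1)), g n x = 0 → ∃ m : ℕ, ∀ a ∈ 𝔞 ^ m, a • x ∈ I ^ (n + 1) • (⊤ : Submodule A (M (n + 1)))) ∧
      (∀ n (y : M n), ∃ m : ℕ, ∀ a ∈ 𝔞 ^ m, a • y ∈ LinearMap.range (g n)) ∧
      Nonempty (F ≅ Functor.ofOpSequence
        (X := fun n => (Scheme.Modules.restrictFunctor (LocCoh.puncturedOpen A 𝔞).ι).obj (Formal2.tmod A (M n)))
        (fun n => (Scheme.Modules.restrictFunctor (LocCoh.puncturedOpen A 𝔞).ι).map (Formal2.tmodMap A (g n)))) := by
  obtain ⟨M, hfg, hgood, hmap⟩ := exists_models hF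
  exact exists_model_aux I 𝔞 F hF (Algz.sectMod A (LocCoh.puncturedOpen A 𝔞) F) (fun n a ha x => sectMod_kill hF n a ha x)
    (restrictSectSysIso (LocCoh.puncturedOpen A 𝔞) F (fun k => (hF.1 k.unop).1)) M hfg hgood hmap

end Groth.Agent.RlimMilnor.CohSys
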