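import Groth.Agent.RlimMilnor.Principal
import Groth.Prelude.Def_Algz

/-!
# Elementary facts about coherent formal systems
-/

set_option autoImplicit false
set_option linter.all false
set_option backward.isDefEq.respectTransparency false

universe u

open CategoryTheory CategoryTheory.Limits Opposite AlgebraicGeometry
open Groth.Agent.FormalFun

namespace Groth.Agent.RlimMilnor.CohSys

variable {A : Type u} [CommRing A] {X : Scheme.{u}} [X.Over (Spec (CommRingCat.of A))] {I : Ideal A}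
  {G : ℕᵒᵖ ⥤ X.Modules} (hG : Formal.IsCohFormal I G)

abbrev tr (G : ℕᵒᵖ ⥤ X.Modules) {n k : ℕ} (h : n ≤ k) : G.obj (op k) ⟶ G.obj (op n) :=
  G.map (homOfLE h).op

lemma tr_tr (G : ℕᵒᵖ ⥤ X.Modules) {n k l : ℕ} (h : n ≤ k) (h' : k ≤ l) :
    tr G h' ≫ tr G h = tr G (h.trans h') := by
  rw [← Functor.map_comp]; rfl

lemma smulFamily_comp_eq_zero {M N : X.Modules} (J : Ideal A) (φ : M ⟶ N) :
    (∀ a ∈ J, Formal.smulMod A M a ≫ φ = 0) → Formal.smulFamily J M ≫ φ = 0 := fun h => by
  refine Sigma.hom_ext _ _ fun a => ?_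
  simp only [Formal.smulFamily, colimit.ι_desc_assoc, Cofan.mk_ι_app, comp_zero]
  exact h _ a.2

lemma smul_comp_of_killed {M N : X.Modules} {J : Ideal A} (hN : Formal.KilledBy J N) (φ : M ⟶ N) :
    ∀ a ∈ J, Formal.smulMod A M a ≫ φ = 0 := fun a ha => by
  rw [smulMod_naturality, hN a ha, comp_zero]

include hG

lemma epi_tr_succ (n : ℕ) : Epi (tr G (Nat.le_succ n)) := by
  obtain ⟨h, hi⟩ := hG.2.2 n
  haveI : Epi (cokernel.desc _ _ h) := @IsIso.epi_of_iso _ _ _ _ _ hi
  haveI : Epi (cokernel.π (Formal.smulFamily (I ^ (n + 1)) (G.obj (op (n + 1)))) ≫ cokernel.desc _ _ h) :=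
    epi_comp _ _
  rwa [cokernel.π_desc] at this

lemma epi_tr {n k : ℕ} (h : n ≤ k) : Epi (tr G h) := by
  induction k, h using Nat.le_induction with
  | base =>
    show Epi (G.map (𝟙 (op n)))
    rw [G.map_id]; infer_instance
  | succ k h ih =>
    haveI := epi_tr_succ hG k
    rw [← tr_tr G h (Nat.le_succ k)]
    exact epi_comp _ _

lemma exists_factor {n k : ℕ} (h : n ≤ k) : ∀ {Z : X.Modules} (f : G.obj (op k) ⟶ Z),
    (∀ a ∈ I ^ (n + 1), Formal.smulMod A (G.obj (op k)) a ≫ f = 0) → ∃ g, tr G h ≫ g = f := by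
  induction k, h using Nat.le_induction with
  | base =>
    intro Z f _
    refine ⟨f, ?_⟩
    show G.map (𝟙 (op n)) ≫ f = f
    rw [G.map_id, Category.id_comp]
  | succ k h ih =>
    intro Z f hf
    obtain ⟨w, hi⟩ := hG.2.2 k
    haveI := epi_tr_succ hG k
    have hf' : Formal.smulFamily (I ^ (k + 1)) (G.obj (op (k + 1))) ≫ f = 0 :=
      smulFamily_comp_eq_zero _ f fun a ha => hf a (Ideal.pow_le_pow_right (by omega) ha)
    let f' : G.obj (op k) ⟶ Z := inv (cokernel.desc _ _ w) ≫ cokernel.desc _ f hf'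
    have hff : tr G (Nat.le_succ k) ≫ f' = f := by
      show tr G (Nat.le_succ k) ≫ inv _ ≫ _ = f
      rw [← Category.assoc]
      have : tr G (Nat.le_succ k) ≫ inv (cokernel.desc _ _ w) = cokernel.π _ := by
        rw [IsIso.comp_inv_eq, cokernel.π_desc]
      rw [this, cokernel.π_desc]
    obtain ⟨g, hg⟩ := ih f' fun a ha => by
      rw [← cancel_epi (tr G (Nat.le_succ k)), comp_zero, ← Category.assoc, ← smulMod_naturality,
        Category.assoc, hff, hf a ha]
    exact ⟨g, by rw [← tr_tr G h (Nat.le_succ k), Category.assoc, hg, hff]⟩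

lemma exists_factor_killed {n k : ℕ} (h : n ≤ k) {Z : X.Modules} (hZ : Formal.KilledBy (I ^ (n + 1)) Z)
    (f : G.obj (op k) ⟶ Z) : ∃ g, tr G h ≫ g = f :=
  exists_factor hG h f (smul_comp_of_killed hZ f)

omit hG

theorem existsUnique_reindex {F G : ℕᵒᵖ ⥤ X.Modules} (hF : Formal.IsCohFormal I F)
    (hG : Formal.IsCohFormal I G) {m : ℕ → ℕ} (hm : Monotone m) (hle : ∀ n, n ≤ m n)
    (π : DerCA.reindex F hm ⟶ F) (hπ : ∀ n : ℕ, π.app (op n) = F.map (homOfLE (hle n)).op)
    (α : DerCA.reindex F hm ⟶ G) : ∃! β : F ⟶ G, π ≫ β = α := by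
  choose b hb using fun n => exists_factor_killed hF (hle n) (hG.2.1 n) (α.app (op n))
  have he : ∀ n, Epi (π.app (op n)) := fun n => hπ n ▸ epi_tr hF (hle n)
  have hb' : ∀ n, π.app (op n) ≫ b n = α.app (op n) := fun n => (congrArg (· ≫ b n) (hπ n)).trans (hb n)
  refine ⟨{ app := fun n => b n.unop, naturality := ?_ }, ?_, fun β' hβ' => ?_⟩
  · intro x y g
    haveI := he x.unop
    show F.map g ≫ b y.unop = b x.unop ≫ G.map g
    rw [← cancel_epi (π.app (op x.unop)), ← Category.assoc, ← Category.assoc, hb']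
    show (π.app x ≫ F.map g) ≫ b y.unop = α.app x ≫ G.map g
    rw [← π.naturality, Category.assoc]
    refine (congrArg (_ ≫ ·) (hb' y.unop)).trans ?_
    exact α.naturality g
  · ext n : 2
    exact hb' n.unop
  · ext n : 2
    haveI := he n.unop
    refine (cancel_epi (π.app (op n.unop))).1 ?_
    refine Eq.trans ?_ (hb' n.unop).symm
    exact congrArg (fun t => t.app n) hβ'

theorem nonempty_iso_of_isProIsomorphic {F G : ℕᵒᵖ ⥤ X.Modules} (hF : Formal.IsCohFormal I F)
    (hG : Formal.IsCohFormal I G) (h : Algz.IsProIsomorphic F G) : Nonempty (F ≅ G) := by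
  obtain ⟨m, hm, hle, a, ha⟩ := h
  let π : DerCA.reindex F hm ⟶ F :=
    { app := fun n => F.map (homOfLE (hle n.unop)).op
      naturality := fun x y g => by
        show F.map _ ≫ F.map _ = F.map _ ≫ F.map _
        rw [← Functor.map_comp, ← Functor.map_comp]
        rfl }
  obtain ⟨β, hβ, -⟩ := existsUnique_reindex hF hG hm hle π (fun _ => rfl) a
  have hβ' : ∀ n : ℕ, tr F (hle n) ≫ β.app (op n) = a.app (op n) := fun n => congrArg (fun t => t.app (op n)) hβ
  haveI : ∀ n, IsIso (β.app n) := fun ⟨n⟩ => by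
    obtain ⟨k, hk, b, hb1, hb2⟩ := ha n
    haveI := epi_tr hG hk
    obtain ⟨c, hc⟩ := exists_factor_killed hG hk (hF.2.1 n) (b ≫ tr F (hle n))
    refine ⟨c, ?_, ?_⟩
    · haveI := epi_tr hF (hk.trans (hle k))
      rw [← cancel_epi (tr F (hk.trans (hle k))), Category.comp_id]
      have h1 : tr F (hk.trans (hle k)) ≫ β.app (op n) = a.app (op k) ≫ tr G hk := by
        rw [← tr_tr F hk (hle k), Category.assoc]
        refine (congrArg (_ ≫ ·) (β.naturality (homOfLE hk).op)).trans ?_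
        rw [← Category.assoc, hβ']
      rw [← Category.assoc, h1, Category.assoc, hc, ← Category.assoc, hb1]
      show F.map _ ≫ tr F _ = _
      rw [← Functor.map_comp]
      rfl
    · rw [← cancel_epi (tr G hk), ← Category.assoc, hc, Category.comp_id, Category.assoc, hβ' n]
      exact hb2
  haveI := NatIso.isIso_of_isIso_app β
  exact ⟨asIso β⟩

theorem exists_of_killed {F : ℕᵒᵖ ⥤ X.Modules} (hF : Formal.IsCohFormal I F)
    (hc : ∃ c : ℕ, ∀ n : ℕ, Formal.KilledBy (I ^ c) (F.obj (op n))) :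
    ∃ M : X.Modules, Coh.IsCoh M ∧ Nonempty (Formal.completion I M ≅ F) := by
  obtain ⟨c, hc⟩ := hc
  refine ⟨F.obj (op c), hF.1 c, ?_⟩
  have hiso : ∀ {k : ℕ} (h : c ≤ k), IsIso (tr F h) := fun {k} h => by
    obtain ⟨g, hg⟩ := exists_factor hF h (𝟙 _) fun a ha => by
      rw [hc k a (Ideal.pow_le_pow_right (Nat.le_succ c) ha), zero_comp]
    haveI := epi_tr hF h
    exact ⟨g, hg, by rw [← cancel_epi (tr F h), ← Category.assoc, hg, Category.id_comp, Category.comp_id]⟩
  let v : ∀ n, F.obj (op c) ⟶ F.obj (op n) := fun n =>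
    (@asIso _ _ _ _ _ (hiso (Nat.le_add_left c n))).inv ≫ tr F (Nat.le_add_right n c)
  have hv : ∀ n, tr F (Nat.le_add_left c n) ≫ v n = tr F (Nat.le_add_right n c) := fun n =>
    (@asIso _ _ _ _ _ (hiso (Nat.le_add_left c n))).hom_inv_id_assoc _
  let φ : ∀ n, Formal.modPow I (n + 1) (F.obj (op c)) ⟶ F.obj (op n) := fun n =>
    cokernel.desc _ (v n) (smulFamily_comp_eq_zero _ _ (smul_comp_of_killed (hF.2.1 n) _))
  have hφ : ∀ n, Formal.modPowπ I (n + 1) (F.obj (op c)) ≫ φ n = v n := fun n => cokernel.π_desc _ _ _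
  haveI : ∀ n, IsIso (φ n) := fun n => by
    haveI := hiso (Nat.le_add_left c n)
    haveI := epi_tr hF (Nat.le_add_right n c)
    let p := Formal.modPowπ I (n + 1) (F.obj (op c))
    obtain ⟨g, hg⟩ := exists_factor hF (Nat.le_add_right n c) (tr F (Nat.le_add_left c n) ≫ p) fun a ha => by
      rw [← Category.assoc, smulMod_naturality, Category.assoc, Principal.smulMod_modPowπ _ _ _ ha, comp_zero]
    refine ⟨g, ?_, ?_⟩
    · rw [← cancel_epi p, ← cancel_epi (tr F (Nat.le_add_left c n)), Category.comp_id]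
      rw [← Category.assoc p, hφ, ← Category.assoc, hv, hg]
    · rw [← cancel_epi (tr F (Nat.le_add_right n c)), ← Category.assoc, hg, Category.comp_id, Category.assoc,
        hφ, hv]
  let ψ : Formal.completion I (F.obj (op c)) ⟶ F :=
    NatTrans.ofOpSequence φ (fun n => by
      simp only [Formal.completion, Functor.ofOpSequence_map_homOfLE_succ]
      haveI := hiso (Nat.le_add_left c (n + 1))
      refine (cancel_epi (Formal.modPowπ I (n + 1 + 1) (F.obj (op c)))).1 ?_
      rw [← Category.assoc, Formal.modPowπ_trans, hφ, ← Category.assoc, hφ]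
      refine (cancel_epi (tr F (Nat.le_add_left c (n + 1)))).1 ?_
      have hvn : tr F (Nat.le_add_left c (n + 1)) ≫ v n =
          tr F ((Nat.le_succ n).trans (Nat.le_add_right (n + 1) c)) := by
        rw [← tr_tr F (Nat.le_add_left c n) (Nat.add_le_add_right (Nat.le_succ n) c), Category.assoc, hv,
          tr_tr]
      refine hvn.trans (Eq.symm ?_)
      exact (Category.assoc _ _ _).symm.trans
        ((congrArg (· ≫ tr F (Nat.le_succ n)) (hv (n + 1))).trans (tr_tr _ _ _)))
  haveI : ∀ n, IsIso (ψ.app n) := fun ⟨n⟩ => inferInstanceAs (IsIso (φ n))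
  haveI := NatIso.isIso_of_isIso_app ψ
  exact ⟨asIso ψ⟩

end Groth.Agent.RlimMilnor.CohSys
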