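import Groth.Agent.RlimMilnor.CanonicalConv

/-!
# The module of a Mittag-Leffler system surjects
-/

set_option autoImplicit false
set_option linter.all false
set_option backward.isDefEq.respectTransparency false

universe u

open CategoryTheory CategoryTheory.Limits Opposite AlgebraicGeometry
open Groth.Agent.FormalFun Groth.Agent.QCohBase

namespace Groth.Agent.RlimMilnor.CohSys

variable {A : Type u} [CommRing A] [IsNoetherianRing A] {I : Ideal A}

variable {U : (Spec (CommRingCat.of A)).Opens} {G : ℕᵒᵖ ⥤ (U : Scheme.{u}).Modules}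

theorem epi_of_isML (hG : Formal.IsCohFormal I G) (ha : ARSys.IsML (Algz.sectMod A U G)) (n : ℕ) :
    Epi (((Scheme.Modules.restrictAdjunction U.ι).homEquiv _ (G.obj (op n))).symm
      (((tilde.adjunction (R := CommRingCat.of A)).homEquiv (limit (Algz.sectMod A U G))
        ((Scheme.Modules.pushforward U.ι).obj (G.obj (op n)))).symm
          (limit.π (Algz.sectMod A U G) (op n)))) := by
  set S := Algz.sectMod A U G
  let P := Scheme.Modules.pushforward U.ι
  let radj := Scheme.Modules.restrictAdjunction U.ι
  let tadj := tilde.adjunction (R := CommRingCat.of A)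
  have hz : ∀ X Y : ModuleCat.{u} A, (tilde.functor (CommRingCat.of A)).map (0 : X ⟶ Y) = 0 := fun X Y => by
    refine (tadj.homEquiv _ _).injective ?_
    rw [Adjunction.homEquiv_unit]
    refine (tadj.unit.naturality (0 : X ⟶ Y)).symm.trans ?_
    show (0 : X ⟶ Y) ≫ _ = _
    rw [zero_comp, Adjunction.homEquiv_unit]
    ext x
    rfl
  obtain ⟨r, hr, hy⟩ := exists_lift_of_stable (S := S) (fun n => by
    obtain ⟨r, hr⟩ := ha n
    refine ⟨n + r, Nat.le_add_right n r, fun s hs => ?_⟩
    obtain ⟨t, rfl⟩ := Nat.le.dest ((Nat.le_add_right n r).trans hs)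
    have h := hr t (by omega)
    exact le_antisymm (range_le_of_imageSubobject_eq _ _ h) (range_le_of_imageSubobject_eq _ _ h.symm)) n
  refine Preadditive.epi_of_cancel_zero _ fun {Z} k hk => ?_
  haveI := epi_tr hG hr
  suffices h : tr G hr ≫ k = 0 by rwa [← cancel_epi (tr G hr), comp_zero]
  have h1 : limit.π S (op n) ≫ (ΓF A).map (P.map k) = tadj.homEquiv _ _ (radj.homEquiv _ _ 0) := by
    rw [← hk, Adjunction.homEquiv_naturality_right, Equiv.apply_symm_apply,
      Adjunction.homEquiv_naturality_right, Equiv.apply_symm_apply]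
  have h2 : (ΓF A).map (P.map (tr G hr ≫ k)) = 0 := by
    ext x
    obtain ⟨y, hy'⟩ := hy x
    rw [Functor.map_comp, Functor.map_comp]
    show (ΓF A).map (P.map k) (S.map (homOfLE hr).op x) = 0
    rw [← hy']
    refine (ConcreteCategory.congr_hom h1 y).trans ?_
    rw [Adjunction.homEquiv_unit, Adjunction.homEquiv_unit]
    rfl
  haveI : IsIso (Scheme.Modules.fromTildeΓ (R := CommRingCat.of A) (P.obj (G.obj (op r)))) := by
    haveI : QuasiCompact U.ι := inferInstance
    haveI : (G.obj (op r)).IsQuasicoherent := (hG.1 r).1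
    haveI : (P.obj (G.obj (op r))).IsQuasicoherent := isQuasicoherent_pushforward _ U.ι
    exact Scheme.Modules.isIso_fromTildeΓ_of_isQuasicoherent (P.obj (G.obj (op r)))
  have h3 : P.map (tr G hr ≫ k) = 0 := by
    refine (cancel_epi (Scheme.Modules.fromTildeΓ (R := CommRingCat.of A) (P.obj (G.obj (op r))))).1 ?_
    refine ((Scheme.Modules.fromTildeΓNatTrans (R := CommRingCat.of A)).naturality _).symm.trans ?_
    show (tilde.functor (CommRingCat.of A)).map ((ΓF A).map (P.map (tr G hr ≫ k))) ≫ _ = _
    rw [h2, hz, zero_comp, comp_zero]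
  haveI : P.Faithful := inferInstance
  exact P.map_injective (h3.trans (P.map_zero _ _).symm)

end Groth.Agent.RlimMilnor.CohSys
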