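import Groth.Agent.RlimMilnor.Trunc

/-!
# Formal systems for a principal ideal
-/

set_option autoImplicit false
set_option linter.all false
set_option backward.isDefEq.respectTransparency false

universe u

open CategoryTheory CategoryTheory.Limits Opposite TopologicalSpace AlgebraicGeometry
open Groth.Agent.QCohBase Groth.Agent.FormalFun

namespace Groth.Agent.RlimMilnor.Principal

variable {A : Type u} [CommRing A] {X : Scheme.{u}} [X.Over (Spec (CommRingCat.of A))] (f : A)

local notation "m" => Formal.smulMod A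

lemma smulMod_pow_add (M : X.Modules) (j k : ℕ) : m M (f ^ (j + k)) = m M (f ^ k) ≫ m M (f ^ j) := by
  rw [pow_add, smulMod_mul]

lemma mono_smulMod_pow {M : X.Modules} (h : Mono (m M f)) : ∀ k : ℕ, Mono (m M (f ^ k))
  | 0 => by rw [pow_zero, smulMod_one]; infer_instance
  | k + 1 => by
    haveI := mono_smulMod_pow h k
    rw [pow_succ', smulMod_mul]
    infer_instance

lemma smulMod_modPowπ (I : Ideal A) (n : ℕ) (M : X.Modules) {a : A} (ha : a ∈ I ^ n) :
    m M a ≫ Formal.modPowπ I n M = 0 := by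
  have e : m M a = Sigma.ι (fun _ : ↥(I ^ n) => M) ⟨a, ha⟩ ≫ Formal.smulFamily (I ^ n) M := by
    simp [Formal.smulFamily]
  rw [e, Category.assoc, Formal.modPowπ, cokernel.condition, comp_zero]

lemma pow_mem (n : ℕ) : f ^ n ∈ (Ideal.span ({f} : Set A)) ^ n :=
  Ideal.pow_mem_pow (Ideal.mem_span_singleton_self f) n

lemma exact_modPowπ (n : ℕ) (M : X.Modules) :
    (ShortComplex.mk (m M (f ^ n)) (Formal.modPowπ (Ideal.span ({f} : Set A)) n M)
      (smulMod_modPowπ _ n M (pow_mem f n))).Exact := by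
  refine ShortComplex.exact_of_g_is_cokernel _ (CokernelCofork.IsColimit.ofπ _ _
    (fun {Z} k hk => cokernel.desc _ k ?_) (fun {Z} k hk => cokernel.π_desc _ _ _)
    (fun {Z} k hk l hl => ?_))
  · refine Sigma.hom_ext _ _ fun a => ?_
    obtain ⟨b, hb⟩ := Ideal.mem_span_singleton'.1 (show a.1 ∈ Ideal.span {f ^ n} from
      Ideal.span_singleton_pow f n ▸ a.2)
    have hk' : m M (f ^ n) ≫ k = 0 := hk
    simp only [Formal.smulFamily, colimit.ι_desc_assoc, Cofan.mk_ι_app, comp_zero]
    rw [← hb, mul_comm, smulMod_mul, Category.assoc, hk', comp_zero]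
  · haveI : Epi (Formal.modPowπ (Ideal.span ({f} : Set A)) n M) := by
      unfold Formal.modPowπ; infer_instance
    exact (cancel_epi (Formal.modPowπ (Ideal.span ({f} : Set A)) n M)).1
      (hl.trans (cokernel.π_desc _ _ _).symm)

instance epi_modPowπ (I : Ideal A) (n : ℕ) (M : X.Modules) : Epi (Formal.modPowπ I n M) := by
  unfold Formal.modPowπ; infer_instance

theorem modPow_shortExact (F : X.Modules) (hF : Mono (m F f)) (n : ℕ) :
    ∃ i : Formal.modPow (Ideal.span ({f} : Set A)) 1 F ⟶ Formal.modPow (Ideal.span ({f} : Set A)) (n + 1) F,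
      Mono i ∧ Formal2.modPowLE (Ideal.span ({f} : Set A)) (Nat.le_add_left 1 n) F ≫ i =
        m (Formal.modPow (Ideal.span ({f} : Set A)) (n + 1) F) (f ^ n) ∧
      ∃ w : i ≫ Formal.modPowTrans (Ideal.span ({f} : Set A)) n F = 0,
        (ShortComplex.mk i (Formal.modPowTrans (Ideal.span ({f} : Set A)) n F) w).ShortExact := by
  set I := Ideal.span ({f} : Set A)
  let p : ∀ k, F ⟶ Formal.modPow I k F := fun k => Formal.modPowπ I k F
  haveI := mono_smulMod_pow f hF n
  have hz : Formal.smulFamily (I ^ 1) F ≫ (m F (f ^ n) ≫ p (n + 1)) = 0 := by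
    refine Sigma.hom_ext _ _ fun a => ?_
    simp only [Formal.smulFamily, colimit.ι_desc_assoc, Cofan.mk_ι_app, comp_zero]
    refine (Category.assoc _ _ _).symm.trans ?_
    refine (congrArg (· ≫ p (n + 1)) (smulMod_mul F _ _).symm).trans ?_
    exact smulMod_modPowπ _ _ _ (by rw [pow_add]; exact Ideal.mul_mem_mul (pow_mem f n) a.2)
  let i : Formal.modPow I 1 F ⟶ Formal.modPow I (n + 1) F := cokernel.desc _ (m F (f ^ n) ≫ p (n + 1)) hz
  have hpi : p 1 ≫ i = m F (f ^ n) ≫ p (n + 1) := cokernel.π_desc _ _ _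
  have hpt : p (n + 1) ≫ Formal.modPowTrans I n F = p n := Formal.modPowπ_trans I n F
  have hi : Mono i := by
    refine Preadditive.mono_of_cancel_zero i fun {T} x hx => ?_
    obtain ⟨T', e, he, y, hy⟩ := surjective_up_to_refinements_of_epi (p 1) x
    have hy0 : (y ≫ m F (f ^ n)) ≫ p (n + 1) = 0 := by
      rw [Category.assoc, ← hpi, ← Category.assoc, ← hy, Category.assoc, hx, comp_zero]
    obtain ⟨T'', e', he', z, hzz⟩ := (exact_modPowπ f (n + 1) F).exact_up_to_refinements _ hy0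
    have hy1 : e' ≫ y = z ≫ m F (f ^ 1) := by
      rw [← cancel_mono (m F (f ^ n)), Category.assoc, Category.assoc, ← smulMod_pow_add]
      exact hzz
    rw [← cancel_epi e, ← cancel_epi e', hy, ← Category.assoc, hy1, Category.assoc,
      smulMod_modPowπ _ _ _ (pow_mem f 1)]
    simp
  refine ⟨i, hi, ?_, ?_, ?_⟩
  · rw [← cancel_epi (p (n + 1)), ← Category.assoc, Formal2.modPowπ_modPowLE, hpi]
    exact smulMod_naturality _ _
  · rw [← cancel_epi (p 1), ← Category.assoc, hpi, Category.assoc, hpt, comp_zero]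
    exact smulMod_modPowπ _ _ _ (pow_mem f n)
  · haveI : Epi (Formal.modPowTrans I n F) := epi_of_epi_fac hpt
    refine { exact := ?_, mono_f := hi, epi_g := inferInstance }
    rw [ShortComplex.exact_iff_exact_up_to_refinements]
    intro T x hx
    obtain ⟨T', e, he, y, hy⟩ := surjective_up_to_refinements_of_epi (p (n + 1)) x
    have hy0 : y ≫ p n = 0 := by
      rw [← hpt, ← Category.assoc, ← hy, Category.assoc]
      exact (congrArg (e ≫ ·) hx).trans comp_zero
    obtain ⟨T'', e', he', z, hzz⟩ := (exact_modPowπ f n F).exact_up_to_refinements y hy0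
    refine ⟨T'', e' ≫ e, epi_comp _ _, z ≫ p 1, ?_⟩
    show (e' ≫ e) ≫ x = (z ≫ p 1) ≫ i
    have hzz' : e' ≫ y = z ≫ m F (f ^ n) := hzz
    exact (Category.assoc _ _ _).trans ((congrArg (e' ≫ ·) hy).trans ((Category.assoc _ _ _).symm.trans
      ((congrArg (· ≫ p (n + 1)) hzz').trans ((Category.assoc _ _ _).trans
      ((congrArg (z ≫ ·) hpi.symm).trans (Category.assoc _ _ _).symm)))))

section System

variable (G : ℕᵒᵖ ⥤ X.Modules)

/-- Condition (1) for a system. -/
abbrev Cond : Prop := ∀ n : ℕ, ∃ i : G.obj (op n) ⟶ G.obj (op (n + 1)), Mono i ∧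
  G.map (homOfLE (Nat.le_succ n)).op ≫ i = m (G.obj (op (n + 1))) f ∧
  ∃ w : i ≫ G.map (homOfLE (Nat.zero_le (n + 1))).op = 0,
    (ShortComplex.mk i (G.map (homOfLE (Nat.zero_le (n + 1))).op) w).ShortExact

variable {f} {G} (h1 : Cond f G)

include h1

lemma epi_trans_zero (n : ℕ) : Epi (G.map (homOfLE (Nat.zero_le (n + 1))).op) := by
  obtain ⟨i, -, -, w, hs⟩ := h1 n
  exact hs.epi_g

lemma inc_comp_trans (n : ℕ) {i : G.obj (op n) ⟶ G.obj (op (n + 1))} (hi : Mono i)
    (hti : G.map (homOfLE (Nat.le_succ n)).op ≫ i = m (G.obj (op (n + 1))) f) :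
    i ≫ G.map (homOfLE (Nat.le_succ n)).op = m (G.obj (op n)) f := by
  rw [← cancel_mono i, Category.assoc, hti]
  exact (smulMod_naturality i f).symm

lemma epi_trans : ∀ n : ℕ, Epi (G.map (homOfLE (Nat.le_succ n)).op)
  | 0 => epi_trans_zero h1 0
  | n + 1 => by
    haveI := epi_trans n
    obtain ⟨i, hi, hti, w, hs⟩ := h1 n
    obtain ⟨j, hj, htj, -, -⟩ := h1 (n + 1)
    refine Preadditive.epi_of_cancel_zero _ fun {T} k hk => ?_
    have hik : i ≫ k = 0 := by
      rw [← cancel_epi (G.map (homOfLE (Nat.le_succ n)).op), ← Category.assoc, hti, comp_zero,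
        ← inc_comp_trans h1 (n + 1) hj htj, Category.assoc, hk, comp_zero]
    haveI := hs.epi_g
    obtain ⟨l, hl⟩ := CokernelCofork.IsColimit.desc' hs.gIsCokernel k hik
    haveI := epi_trans_zero h1 (n + 1)
    have hl0 : l = 0 := by
      rw [← cancel_epi (G.map (homOfLE (Nat.zero_le (n + 1 + 1))).op), comp_zero, ← hk]
      rw [← hl, ← Category.assoc]
      congr 1
      show _ = G.map _ ≫ G.map _
      rw [← Functor.map_comp]
      rfl
    rw [← hl, hl0, comp_zero]

lemma smulMod_eq_zero : ∀ n : ℕ, m (G.obj (op n)) (f ^ (n + 1)) = 0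
  | 0 => by
    obtain ⟨i, hi, hti, w, hs⟩ := h1 0
    rw [zero_add, pow_one, ← inc_comp_trans h1 0 hi hti]
    exact w
  | n + 1 => by
    obtain ⟨i, hi, hti, w, hs⟩ := h1 n
    rw [smulMod_pow_add f _ (n + 1) 1, pow_one, ← hti, Category.assoc, ← smulMod_naturality,
      smulMod_eq_zero n, zero_comp, comp_zero]

lemma exact_trans : ∀ (n : ℕ) {T : X.Modules} (x : T ⟶ G.obj (op (n + 1))),
    x ≫ G.map (homOfLE (Nat.le_succ n)).op = 0 →
      ∃ (T' : X.Modules) (e : T' ⟶ T) (_ : Epi e) (z : T' ⟶ G.obj (op (n + 1))),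
        e ≫ x = z ≫ m (G.obj (op (n + 1))) (f ^ (n + 1))
  | 0, T, x, hx => by
    obtain ⟨i, hi, hti, w, hs⟩ := h1 0
    obtain ⟨T', e, he, y, hy⟩ := hs.exact.exact_up_to_refinements x hx
    haveI := epi_trans h1 0
    obtain ⟨T'', e', he', z, hz⟩ := surjective_up_to_refinements_of_epi (G.map (homOfLE (Nat.le_succ 0)).op) y
    refine ⟨T'', e' ≫ e, epi_comp _ _, z, ?_⟩
    have hy' : e ≫ x = y ≫ i := hy
    have hf : m (G.obj (op (0 + 1))) (f ^ (0 + 1)) = m (G.obj (op (0 + 1))) f := congrArg _ (pow_one f)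
    refine Eq.trans ?_ ((congrArg (z ≫ ·) (hti.trans hf.symm)))
    exact (Category.assoc _ _ _).trans ((congrArg (e' ≫ ·) hy').trans ((Category.assoc _ _ _).symm.trans
      ((congrArg (· ≫ i) hz).trans (Category.assoc _ _ _))))
  | n + 1, T, x, hx => by
    obtain ⟨i, hi, hti, w, hs⟩ := h1 (n + 1)
    have hx0 : x ≫ G.map (homOfLE (Nat.zero_le (n + 1 + 1))).op = 0 := by
      rw [show (homOfLE (Nat.zero_le (n + 1 + 1))).op =
        (homOfLE (Nat.le_succ (n + 1))).op ≫ (homOfLE (Nat.zero_le (n + 1))).op from rfl, Functor.map_comp,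
        ← Category.assoc, hx, zero_comp]
    obtain ⟨T', e, he, y, hy⟩ := hs.exact.exact_up_to_refinements x hx0
    have hy' : e ≫ x = y ≫ i := hy
    obtain ⟨j, hj, htj, -, -⟩ := h1 n
    have hyf : y ≫ m (G.obj (op (n + 1))) f = 0 := by
      rw [← inc_comp_trans h1 (n + 1) hi hti, ← Category.assoc, ← hy', Category.assoc, hx, comp_zero]
    have hyt : y ≫ G.map (homOfLE (Nat.le_succ n)).op = 0 := by
      rw [← cancel_mono j, zero_comp, Category.assoc, htj, hyf]
    obtain ⟨T'', e', he', z, hz⟩ := exact_trans n y hyt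
    haveI := epi_trans h1 (n + 1)
    obtain ⟨T''', e'', he'', z', hz'⟩ :=
      surjective_up_to_refinements_of_epi (G.map (homOfLE (Nat.le_succ (n + 1))).op) z
    refine ⟨T''', e'' ≫ e' ≫ e, inferInstance, z', ?_⟩
    calc (e'' ≫ e' ≫ e) ≫ x = e'' ≫ (z ≫ m (G.obj (op (n + 1))) (f ^ (n + 1))) ≫ i := by
          simp only [Category.assoc, hy']
          rw [← Category.assoc e' y i, hz, Category.assoc]
      _ = (e'' ≫ z) ≫ i ≫ m (G.obj (op (n + 1 + 1))) (f ^ (n + 1)) := by
          simp only [Category.assoc]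
          rw [smulMod_naturality i]
      _ = z' ≫ m (G.obj (op (n + 1 + 1))) (f ^ (n + 1 + 1)) := by
          rw [hz', Category.assoc, ← Category.assoc _ i, hti, smulMod_pow_add f _ (n + 1) 1, pow_one]

theorem isQCohFormal (hqc : ∀ n : ℕᵒᵖ, Coh.IsQCoh (G.obj n)) :
    Formal2.IsQCohFormal (Ideal.span ({f} : Set A)) G := by
  have hkill : ∀ n, Formal.KilledBy ((Ideal.span ({f} : Set A)) ^ (n + 1)) (G.obj (op n)) := fun n a ha => by
    obtain ⟨b, rfl⟩ := Ideal.mem_span_singleton'.1 (Ideal.span_singleton_pow f (n + 1) ▸ ha)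
    rw [mul_comm, smulMod_mul, smulMod_eq_zero h1, comp_zero]
  refine ⟨fun n => hqc _, hkill, fun n => ⟨?_, ?_⟩⟩
  · refine Sigma.hom_ext _ _ fun a => ?_
    simp only [Formal.smulFamily, colimit.ι_desc_assoc, Cofan.mk_ι_app, comp_zero]
    exact (smulMod_naturality _ _).trans (by rw [hkill n _ a.2, comp_zero])
  · haveI := epi_trans h1 n
    refine @isIso_of_mono_of_epi _ _ _ _ _ _ ?_ (epi_of_epi_fac (cokernel.π_desc _ _ _))
    refine Preadditive.mono_of_cancel_zero _ fun {T} x hx => ?_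
    obtain ⟨T', e, he, y, hy⟩ := surjective_up_to_refinements_of_epi (cokernel.π _) x
    have hy0 : y ≫ G.map (homOfLE (Nat.le_succ n)).op = 0 := by
      refine Eq.trans ?_ ((congrArg (e ≫ ·) hx).trans comp_zero)
      rw [← Category.assoc, hy, Category.assoc, cokernel.π_desc]
    obtain ⟨T'', e', he', z, hz⟩ := exact_trans h1 n y hy0
    rw [← cancel_epi e, ← cancel_epi e', hy, ← Category.assoc, hz, Category.assoc]
    rw [show m (G.obj (op (n + 1))) (f ^ (n + 1)) ≫ cokernel.π _ = 0 from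
      smulMod_modPowπ _ (n + 1) _ (pow_mem f (n + 1))]
    simp

theorem exists_completion_iso (hqc : ∀ n : ℕᵒᵖ, Coh.IsQCoh (G.obj n)) :
    ∃ F : X.Modules, Mono (m F f) ∧ Nonempty (Formal.completion (Ideal.span ({f} : Set A)) F ≅ G) := by
  have hG := isQCohFormal h1 hqc
  have hI : (Ideal.span ({f} : Set A)).FG := ⟨{f}, by simp [Ideal.submodule_span_eq]⟩
  refine ⟨limit G, Preadditive.mono_of_cancel_zero _ fun {T} x hx => limit.hom_ext fun ⟨k⟩ => ?_, ?_⟩
  · obtain ⟨i, hi, hti, -, -⟩ := h1 k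
    rw [zero_comp, ← limit.w G (homOfLE (Nat.le_succ k)).op, ← cancel_mono i, zero_comp, Category.assoc,
      Category.assoc, hti, ← smulMod_naturality, ← Category.assoc, hx, zero_comp]
  · let φ : ∀ n : ℕ, Formal.modPow (Ideal.span ({f} : Set A)) (n + 1) (limit G) ⟶ G.obj (op n) := fun n =>
      cokernel.desc _ _ (smulFamily_comp_π hG n)
    haveI : ∀ n, IsIso (φ n) := fun n => isIso_cokernel_desc hG hI n _
    refine ⟨NatIso.ofComponents (fun n => @asIso _ _ _ _ (φ n.unop) inferInstance) fun {a b} g => ?_⟩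
    let ψ : Formal.completion (Ideal.span ({f} : Set A)) (limit G) ⟶ G :=
      NatTrans.ofOpSequence φ (fun n => by
        simp only [Formal.completion, Functor.ofOpSequence_map_homOfLE_succ]
        refine (cancel_epi (Formal.modPowπ (Ideal.span ({f} : Set A)) (n + 1 + 1) (limit G))).1 ?_
        rw [← Category.assoc, Formal.modPowπ_trans, ← Category.assoc]
        show cokernel.π _ ≫ φ n = (cokernel.π _ ≫ φ (n + 1)) ≫ _
        rw [cokernel.π_desc, cokernel.π_desc, limit.w])
    exact ψ.naturality g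

end System

end Groth.Agent.RlimMilnor.Principal
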