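import Groth.Agent.RlimMilnor.Top
import Groth.Agent.QCohBase.CohProps
import Groth.Agent.QCohBase.Acyclic
import Groth.Agent.CohTopLib.Functors
import Groth.Prelude.Def_Formal2

/-!
# Cohomology of limits of quasi-coherent formal systems
-/

set_option autoImplicit false
set_option linter.all false
set_option backward.isDefEq.respectTransparency false

universe u

open CategoryTheory CategoryTheory.Limits CategoryTheory.Abelian Opposite TopologicalSpace AlgebraicGeometry

namespace Groth.Agent.RlimMilnor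

variable {A : Type u} [CommRing A] {X : Scheme.{u}} [X.Over (Spec (CommRingCat.of A))]
  {I : Ideal A} {G : ℕᵒᵖ ⥤ X.Modules}

lemma preservesLimit_toSheaf (G : ℕᵒᵖ ⥤ X.Modules) :
    PreservesLimit G (SheafOfModules.toSheaf X.ringCatSheaf) := by
  haveI : PreservesLimitsOfShape ℕᵒᵖ (PresheafOfModules.toPresheaf.{u} X.ringCatSheaf.obj) := inferInstance
  haveI : PreservesLimitsOfSize.{0, 0} (SheafOfModules.forget.{u} X.ringCatSheaf) :=
    @preservesLimitsOfSize_shrink.{0, u, 0, u} _ _ _ _ (SheafOfModules.forget.{u} X.ringCatSheaf) inferInstance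
  haveI : PreservesLimit G (SheafOfModules.toSheaf X.ringCatSheaf ⋙ sheafToPresheaf _ AddCommGrpCat.{u}) :=
    inferInstanceAs (PreservesLimit G (SheafOfModules.forget.{u} X.ringCatSheaf ⋙ PresheafOfModules.toPresheaf X.ringCatSheaf.obj))
  exact preservesLimit_of_reflects_of_preserves _ (sheafToPresheaf _ AddCommGrpCat.{u})

lemma subsingleton_HU_qcoh (M : X.Modules) [Coh.IsQCoh M] {V : X.Opens} (hV : IsAffineOpen V) (i : ℕ) (hi : 0 < i) :
    Subsingleton (CohTop.HU (X := X.toTopCat) (Coh.toAb M) i V) := by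
  obtain ⟨k, rfl⟩ := Nat.exists_eq_add_of_le' hi
  exact CohTopLib.subsingleton_HU (S := QCohBase.affineSystem X) hV (QCohBase.acyclic_of_isQCoh M) k

/-- The abelian tower. -/
noncomputable abbrev abTower (G : ℕᵒᵖ ⥤ X.Modules) : ℕᵒᵖ ⥤ CohTop.Ab X.toTopCat :=
  G ⋙ SheafOfModules.toSheaf X.ringCatSheaf

/-- The underlying abelian sheaf of the limit. -/
noncomputable def limIso (G : ℕᵒᵖ ⥤ X.Modules) :
    (SheafOfModules.toSheaf X.ringCatSheaf).obj (limit G) ≅ limit (abTower G) :=
  haveI := preservesLimit_toSheaf G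
  preservesLimitIso (SheafOfModules.toSheaf X.ringCatSheaf) G

lemma limIso_π (G : ℕᵒᵖ ⥤ X.Modules) (n : ℕᵒᵖ) :
    (limIso G).hom ≫ limit.π (abTower G) n = (SheafOfModules.toSheaf X.ringCatSheaf).map (limit.π G n) :=
  haveI := preservesLimit_toSheaf G
  preservesLimitIso_hom_π (SheafOfModules.toSheaf X.ringCatSheaf) G n

lemma surjective_transition (hG : Formal2.IsQCohFormal I G) {V : X.Opens} (hV : IsAffineOpen V) (n : ℕ) :
    Function.Surjective (((abTower G).map (homOfLE (Nat.le_succ n)).op).hom.app (op V)).hom := by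
  obtain ⟨h, hiso⟩ := hG.2.2 n
  haveI : Epi (G.map (homOfLE (Nat.le_succ n)).op) := by
    rw [← cokernel.π_desc _ _ h]
    exact epi_comp' inferInstance (@IsIso.epi_of_iso _ _ _ _ _ hiso)
  exact QCohBase.app_surjective_of_epi (G.map (homOfLE (Nat.le_succ n)).op) (hG.1 (n + 1)) (hG.1 n) hV

theorem milnor_formal (hG : Formal2.IsQCohFormal I G) (Z : CohTop.Ab X.toTopCat) (i j : ℕ) (hij : j + 1 = i) :
    (∀ ξ : ∀ n : ℕ, Ext.{u} Z ((abTower G).obj (op n)) i,
      (∀ n, (ξ (n + 1)).comp (Ext.mk₀ ((abTower G).map (homOfLE (Nat.le_succ n)).op)) (add_zero i) = ξ n) →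
        ∃ η : Ext.{u} Z (limit (abTower G)) i, ∀ n, η.comp (Ext.mk₀ (limit.π (abTower G) (op n))) (add_zero i) = ξ n) ∧
    ∃ δ : (∀ n : ℕ, Ext.{u} Z ((abTower G).obj (op n)) j) →+ Ext.{u} Z (limit (abTower G)) i,
      (∀ y : Ext.{u} Z (limit (abTower G)) i,
        (∀ n, y.comp (Ext.mk₀ (limit.π (abTower G) (op n))) (add_zero i) = 0) ↔ y ∈ δ.range) ∧
        δ.ker = (extDiff Z (abTower G) j).range :=
  milnor_top (abTower G) {V | IsAffineOpen (X := X) V} X.isBasis_affineOpens
    (fun V hV n => surjective_transition hG hV n)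
    (fun V hV n i hi => haveI : Coh.IsQCoh (G.obj (op n)) := hG.1 n; subsingleton_HU_qcoh (G.obj (op n)) hV i hi)
    Z i j hij

theorem subsingleton_HU_limit (hG : Formal2.IsQCohFormal I G) {U : X.Opens} (hU : IsAffineOpen U) (p : ℕ) :
    Subsingleton (CohTop.HU (X := X.toTopCat) ((SheafOfModules.toSheaf X.ringCatSheaf).obj (limit G)) (p + 1) U) := by
  letI := HasDerivedCategory.standard (CohTop.Ab X.toTopCat)
  let F : ℕ → CohTop.Ab X.toTopCat := fun n => (abTower G).obj (op n)
  let t : ∀ n, F (n + 1) ⟶ F n := fun n => (abTower G).map (homOfLE (Nat.le_succ n)).op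
  haveI := Groth.Agent.SiteRlim.hasProduct_nat
    (fun n : ℕ => (DerivedCategory.singleFunctor (CohTop.Ab X.toTopCat) 0).obj (F n))
  have h2 := (Groth.Agent.SiteRlim.single_rlim F t {V | IsAffineOpen (X := X) V}
    (Groth.Agent.CohTopLib.exists_basis_cover X.isBasis_affineOpens)
    (fun V hV p n => haveI : Coh.IsQCoh (G.obj (op n)) := hG.1 n; subsingleton_HU_qcoh (G.obj (op n)) hV (p + 1) p.succ_pos)
    (fun V hV y => by
      choose s hs using fun n => surjective_transition hG hV n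
      let x : ∀ n : ℕ, (F n).obj.obj (op V) := fun n =>
        Nat.rec (motive := fun n => (F n).obj.obj (op V)) 0 (fun n w => s n (w - y n)) n
      refine ⟨x, funext fun n => ?_⟩
      show x n - ((t n).hom.app (op V)).hom (s n (x n - y n)) = y n
      rw [hs]
      abel)).2 U hU p
  let ψ : abTower G ⟶ CohCx.opSequence F t := NatTrans.ofOpSequence (fun n => 𝟙 (F n)) (fun n => by
    rw [Category.id_comp, Category.comp_id, Functor.ofOpSequence_map_homOfLE_succ])
  haveI : ∀ n, IsIso (ψ.app n) := fun n => inferInstanceAs (IsIso (𝟙 _))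
  haveI : IsIso ψ := NatIso.isIso_of_isIso_app ψ
  let e := ((Sheaf.cohomologyPresheafFunctor.{u} (Opens.grothendieckTopology X.toTopCat) (p + 1)).mapIso
    (limIso G ≪≫ HasLimit.isoOfNatIso (asIso ψ))).app (op U)
  exact e.addCommGroupIsoToAddEquiv.toEquiv.subsingleton_congr.2 h2

end Groth.Agent.RlimMilnor
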