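import Groth.Agent.RlimMilnor.CohSys
import Groth.Agent.FormalFun.Quot
import Groth.Agent.QCohBase.CohRestrict

/-!
# Restriction of coherent formal systems to an open of an affine scheme
-/

set_option autoImplicit false
set_option linter.all false
set_option backward.isDefEq.respectTransparency false

universe u

open CategoryTheory CategoryTheory.Limits Opposite AlgebraicGeometry
open Groth.Agent.FormalFun Groth.Agent.QCohBase

namespace Groth.Agent.RlimMilnor.CohSys

section General

variable {A : Type u} [CommRing A] {X : Scheme.{u}} [X.Over (Spec (CommRingCat.of A))] {I : Ideal A}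

lemma isCohFormal_of_factor {G : ℕᵒᵖ ⥤ X.Modules} (h1 : ∀ n, Coh.IsCoh (G.obj (op n)))
    (h2 : ∀ n, Formal.KilledBy (I ^ (n + 1)) (G.obj (op n))) (h3 : ∀ n, Epi (tr G (Nat.le_succ n)))
    (h4 : ∀ (n : ℕ) (Z : X.Modules) (f : G.obj (op (n + 1)) ⟶ Z),
      (∀ a ∈ I ^ (n + 1), Formal.smulMod A (G.obj (op (n + 1))) a ≫ f = 0) →
        ∃ g, tr G (Nat.le_succ n) ≫ g = f) :
    Formal.IsCohFormal I G := by
  refine ⟨h1, h2, fun n => ?_⟩
  have hw : Formal.smulFamily (I ^ (n + 1)) (G.obj (op (n + 1))) ≫ tr G (Nat.le_succ n) = 0 :=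
    smulFamily_comp_eq_zero _ _ (smul_comp_of_killed (h2 n) _)
  refine ⟨hw, ?_⟩
  haveI := h3 n
  obtain ⟨g, hg⟩ := h4 n _ (cokernel.π (Formal.smulFamily (I ^ (n + 1)) (G.obj (op (n + 1))))) fun a ha =>
    Principal.smulMod_modPowπ I (n + 1) _ ha
  refine ⟨g, ?_, ?_⟩
  · rw [← cancel_epi (cokernel.π (Formal.smulFamily (I ^ (n + 1)) (G.obj (op (n + 1))))), ← Category.assoc,
      cokernel.π_desc, hg, Category.comp_id]
  · rw [← cancel_epi (tr G (Nat.le_succ n)), ← Category.assoc, hg, cokernel.π_desc, Category.comp_id]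

lemma killed_modPow (n : ℕ) (M : X.Modules) : Formal.KilledBy (I ^ n) (Formal.modPow I n M) := fun a ha => by
  rw [← cancel_epi (Formal.modPowπ I n M), ← smulMod_naturality, Principal.smulMod_modPowπ _ _ _ ha, comp_zero]

lemma isCohFormal_completion [IsNoetherianRing A] [IsLocallyNoetherian X] {M : X.Modules} (hM : Coh.IsCoh M) :
    Formal.IsCohFormal I (Formal.completion I M) := by
  have ht : ∀ n, tr (Formal.completion I M) (Nat.le_succ n) = Formal.modPowTrans I (n + 1) M := fun n => by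
    simp only [tr, Formal.completion, Functor.ofOpSequence_map_homOfLE_succ]
  refine isCohFormal_of_factor (fun n => isCoh_Q hM (IsNoetherian.noetherian (I ^ (n + 1))))
    (fun n => killed_modPow (n + 1) M) (fun n => ?_) (fun n Z f hf => ?_)
  · rw [ht]
    exact epi_of_epi_fac (Formal.modPowπ_trans I (n + 1) M)
  · refine ⟨qDesc (Formal.modPowπ I (n + 1 + 1) M ≫ f) fun a ha => ?_, ?_⟩
    · rw [mem_ann, ← Category.assoc, smulMod_naturality, Category.assoc]
      exact (congrArg (_ ≫ ·) (hf a ha)).trans comp_zero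
    · rw [ht]
      refine (cancel_epi (Formal.modPowπ I (n + 1 + 1) M)).1 ?_
      rw [← Category.assoc, Formal.modPowπ_trans]
      exact π_qDesc _ _

lemma completion_congr {M N : X.Modules} (e : M ≅ N) :
    Nonempty (Formal.completion I M ≅ Formal.completion I N) := by
  let φ : ∀ {M N : X.Modules} (_ : M ⟶ N) (n : ℕ), Formal.modPow I (n + 1) M ⟶ Formal.modPow I (n + 1) N :=
    fun {M N} f n => qDesc (f ≫ Formal.modPowπ I (n + 1) N) fun a ha => by
      rw [mem_ann, ← Category.assoc, smulMod_naturality, Category.assoc, Principal.smulMod_modPowπ _ _ _ ha,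
        comp_zero]
  have hφ : ∀ {M N : X.Modules} (f : M ⟶ N) (n : ℕ),
      Formal.modPowπ I (n + 1) M ≫ φ f n = f ≫ Formal.modPowπ I (n + 1) N := fun f n => π_qDesc _ _
  haveI : ∀ n, IsIso (φ e.hom n) := fun n => by
    refine ⟨φ e.inv n, ?_, ?_⟩
    · rw [← cancel_epi (Formal.modPowπ I (n + 1) M), ← Category.assoc, hφ, Category.assoc, hφ,
        Iso.hom_inv_id_assoc, Category.comp_id]
    · rw [← cancel_epi (Formal.modPowπ I (n + 1) N), ← Category.assoc, hφ, Category.assoc, hφ,
        Iso.inv_hom_id_assoc, Category.comp_id]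
  let ψ : Formal.completion I M ⟶ Formal.completion I N :=
    NatTrans.ofOpSequence (φ e.hom) (fun n => by
      refine (cancel_epi (Formal.modPowπ I (n + 1 + 1) M)).1 ?_
      simp only [Formal.completion, Functor.ofOpSequence_map_homOfLE_succ]
      rw [← Category.assoc, Formal.modPowπ_trans, hφ, ← Category.assoc, hφ, Category.assoc,
        Formal.modPowπ_trans])
  haveI : ∀ n, IsIso (ψ.app n) := fun ⟨n⟩ => inferInstanceAs (IsIso (φ e.hom n))
  haveI := NatIso.isIso_of_isIso_app ψ
  exact ⟨asIso ψ⟩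

end General

section ProMap

universe v v' u'

variable {C : Type u} [Category.{v} C] {D : Type u} [Category.{v'} D]

lemma isProIsomorphic_map (R : C ⥤ D) {P Q : ℕᵒᵖ ⥤ C} (h : Algz.IsProIsomorphic P Q) {P' : ℕᵒᵖ ⥤ D}
    (e : P' ≅ P ⋙ R) : Algz.IsProIsomorphic P' (Q ⋙ R) := by
  obtain ⟨m, hm, hle, a, ha⟩ := h
  refine ⟨m, hm, hle,
    { app := fun n => e.hom.app (op (m n.unop)) ≫ R.map (a.app n)
      naturality := fun x y g => ?_ }, fun n => ?_⟩
  · show P'.map _ ≫ e.hom.app _ ≫ R.map (a.app y) = (e.hom.app _ ≫ R.map (a.app x)) ≫ R.map (Q.map g)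
    rw [← Category.assoc, e.hom.naturality, Category.assoc, Category.assoc]
    congr 1
    show R.map _ ≫ R.map _ = R.map _ ≫ R.map _
    rw [← R.map_comp, ← R.map_comp]
    exact congrArg R.map (a.naturality g)
  · obtain ⟨k, hk, b, hb1, hb2⟩ := ha n
    refine ⟨k, hk, R.map b ≫ e.inv.app (op (m n)), ?_, ?_⟩
    · show (e.hom.app (op (m k)) ≫ R.map (a.app (op k))) ≫ R.map b ≫ e.inv.app (op (m n)) = P'.map _
      rw [Category.assoc, ← R.map_comp_assoc, hb1]
      show e.hom.app _ ≫ R.map (P.map _) ≫ e.inv.app _ = P'.map _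
      rw [show R.map (P.map _) ≫ e.inv.app _ = e.inv.app _ ≫ P'.map _ from e.inv.naturality _,
        ← Category.assoc, Iso.hom_inv_id_app, Category.id_comp]
    · show (R.map b ≫ e.inv.app (op (m n))) ≫ e.hom.app (op (m n)) ≫ R.map (a.app (op n)) = R.map (Q.map _)
      rw [Category.assoc, Iso.inv_hom_id_app_assoc, ← R.map_comp, hb2]

end ProMap

section Affine

variable {A : Type u} [CommRing A] {I : Ideal A}

noncomputable local instance : (Spec (CommRingCat.of A)).Over (Spec (CommRingCat.of A)) := ⟨𝟙 _⟩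

variable (U : (Spec (CommRingCat.of A)).Opens)

lemma restrict_smulMod (M : (Spec (CommRingCat.of A)).Modules) (a : A) :
    (Scheme.Modules.restrictFunctor U.ι).map (Formal.smulMod A M a) =
      Formal.smulMod A ((Scheme.Modules.restrictFunctor U.ι).obj M) a := by
  ext W s
  show (ores (le_top : U.ι ''ᵁ W ≤ ⊤) (gl (X := Spec (CommRingCat.of A)) A a : Γ(Spec (CommRingCat.of A), ⊤))) •
      (show Γ(M, U.ι ''ᵁ W) from s) =
    ((U.ι.appIso W).inv (ores (le_top : W ≤ ⊤) (gl (X := U.toScheme) A a : Γ(U.toScheme, ⊤)))) •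
      (show Γ(M, U.ι ''ᵁ W) from s)
  congr 1
  rw [Scheme.Opens.ι_appIso]
  show (Spec (CommRingCat.of A)).presheaf.map (homOfLE (le_top : U.ι ''ᵁ W ≤ ⊤)).op
      ((Scheme.ΓSpecIso (CommRingCat.of A)).inv a) =
    (Spec (CommRingCat.of A)).presheaf.map (U.ι.opensFunctor.map (homOfLE (le_top : W ≤ ⊤))).op
      ((Spec (CommRingCat.of A)).presheaf.map (homOfLE (x := U.ι ''ᵁ ⊤) le_top).op
        ((Scheme.ΓSpecIso (CommRingCat.of A)).inv a))
  generalize (Scheme.ΓSpecIso (CommRingCat.of A)).inv a = r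
  exact ConcreteCategory.congr_hom ((congrArg (Spec (CommRingCat.of A)).presheaf.map
    (Subsingleton.elim _ _)).trans ((Spec (CommRingCat.of A)).presheaf.map_comp
      (homOfLE (x := U.ι ''ᵁ ⊤) le_top).op (U.ι.opensFunctor.map (homOfLE (le_top : W ≤ ⊤))).op)) r

theorem isCohFormal_restrict {G : ℕᵒᵖ ⥤ (Spec (CommRingCat.of A)).Modules} (hG : Formal.IsCohFormal I G) :
    Formal.IsCohFormal I (G ⋙ Scheme.Modules.restrictFunctor U.ι) := by
  haveI : (Scheme.Modules.restrictFunctor U.ι).Additive :=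
    Functor.additive_of_preserves_binary_products _
  refine isCohFormal_of_factor (fun n => isCoh_restrict _ (hG.1 n)) (fun n a ha => ?_) (fun n => ?_)
    (fun n Z f hf => ?_)
  · show Formal.smulMod A ((Scheme.Modules.restrictFunctor U.ι).obj (G.obj (op n))) a = 0
    rw [← restrict_smulMod, hG.2.1 n a ha, Functor.map_zero]
  · haveI := epi_tr_succ hG n
    exact (inferInstance : Epi ((Scheme.Modules.restrictFunctor U.ι).map (tr G (Nat.le_succ n))))
  · let adj := Scheme.Modules.restrictAdjunction U.ι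
    obtain ⟨g, hg⟩ := exists_factor hG (Nat.le_succ n) (adj.homEquiv _ _ f) fun a ha => by
      rw [← adj.homEquiv_naturality_left, restrict_smulMod]
      refine (congrArg (adj.homEquiv _ _) (hf a ha)).trans ?_
      rw [Adjunction.homEquiv_unit, Functor.map_zero, comp_zero]
    refine ⟨(adj.homEquiv _ _).symm g, ?_⟩
    show (Scheme.Modules.restrictFunctor U.ι).map (tr G (Nat.le_succ n)) ≫ _ = f
    rw [← adj.homEquiv_naturality_left_symm, hg, Equiv.symm_apply_apply]

variable [IsNoetherianRing A]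

noncomputable def restrictSectSysIso (G : ℕᵒᵖ ⥤ (U : Scheme.{u}).Modules)
    (hG : ∀ n, Coh.IsQCoh (G.obj n)) :
    G ≅ Algz.sectSys A U G ⋙ Scheme.Modules.restrictFunctor U.ι := by
  haveI : QuasiCompact U.ι := inferInstance
  let P := Scheme.Modules.pushforward U.ι
  let T : Algz.sectSys A U G ⟶ G ⋙ P := Functor.whiskerLeft (G ⋙ P) (Scheme.Modules.fromTildeΓNatTrans (R := CommRingCat.of A))
  haveI : ∀ n, IsIso (T.app n) := fun n => by
    haveI : (G.obj n).IsQuasicoherent := hG n
    haveI : (P.obj (G.obj n)).IsQuasicoherent := isQuasicoherent_pushforward _ U.ι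
    exact Scheme.Modules.isIso_fromTildeΓ_of_isQuasicoherent (P.obj (G.obj n))
  haveI := NatIso.isIso_of_isIso_app T
  exact (Functor.isoWhiskerRight (asIso T) (Scheme.Modules.restrictFunctor U.ι) ≪≫
    Functor.associator _ _ _ ≪≫
    Functor.isoWhiskerLeft G (asIso (Scheme.Modules.restrictAdjunction U.ι).counit) ≪≫
    Functor.rightUnitor G).symm

theorem extends_of_canonicallyExtends {G : ℕᵒᵖ ⥤ (U : Scheme.{u}).Modules} (hG : Formal.IsCohFormal I G)
    (h : Algz.CanonicallyExtends A I U G) :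
    @Algz.Extends A _ (Spec (CommRingCat.of A)) ⟨𝟙 (Spec (CommRingCat.of A))⟩ I U G := by
  obtain ⟨G', hG', hpro⟩ := h
  have hp := isProIsomorphic_map (Scheme.Modules.restrictFunctor U.ι) hpro
    (restrictSectSysIso U G (fun n => (hG.1 n.unop).1))
  obtain ⟨e⟩ := nonempty_iso_of_isProIsomorphic hG (isCohFormal_restrict U hG') hp
  exact ⟨G', hG', ⟨e.symm⟩⟩

lemma exists_completion_restrict_iso (M : (Spec (CommRingCat.of A)).Modules) (hM : Coh.IsCoh M) :
    Nonempty (Formal.completion I M ⋙ Scheme.Modules.restrictFunctor U.ι ≅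
      Formal.completion I ((Scheme.Modules.restrictFunctor U.ι).obj M)) := by
  haveI : (Scheme.Modules.restrictFunctor U.ι).Additive :=
    Functor.additive_of_preserves_binary_products _
  let R := Scheme.Modules.restrictFunctor U.ι
  let adj := Scheme.Modules.restrictAdjunction U.ι
  have hcoh := isCohFormal_restrict U (isCohFormal_completion (I := I) hM)
  let φ : ∀ n, Formal.modPow I (n + 1) (R.obj M) ⟶ R.obj (Formal.modPow I (n + 1) M) := fun n =>
    qDesc (R.map (Formal.modPowπ I (n + 1) M)) fun a ha => by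
      rw [mem_ann, ← restrict_smulMod, ← Functor.map_comp, Principal.smulMod_modPowπ _ _ _ ha, Functor.map_zero]
  have hφ : ∀ n, Formal.modPowπ I (n + 1) (R.obj M) ≫ φ n = R.map (Formal.modPowπ I (n + 1) M) :=
    fun n => π_qDesc _ _
  haveI : ∀ n, IsIso (φ n) := fun n => by
    let g : Formal.modPow I (n + 1) M ⟶ (Scheme.Modules.pushforward U.ι).obj (Formal.modPow I (n + 1) (R.obj M)) :=
      qDesc (adj.homEquiv _ _ (Formal.modPowπ I (n + 1) (R.obj M))) fun a ha => by
        rw [mem_ann, ← adj.homEquiv_naturality_left, restrict_smulMod, Principal.smulMod_modPowπ _ _ _ ha,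
          Adjunction.homEquiv_unit, Functor.map_zero, comp_zero]
    have hg : R.map (Formal.modPowπ I (n + 1) M) ≫ (adj.homEquiv _ _).symm g =
        Formal.modPowπ I (n + 1) (R.obj M) := by
      rw [← adj.homEquiv_naturality_left_symm]
      exact (congrArg (adj.homEquiv _ _).symm (π_qDesc _ _)).trans (Equiv.symm_apply_apply _ _)
    refine ⟨(adj.homEquiv _ _).symm g, ?_, ?_⟩
    · rw [← cancel_epi (Formal.modPowπ I (n + 1) (R.obj M)), ← Category.assoc, hφ, hg, Category.comp_id]
    · haveI : Epi (R.map (Formal.modPowπ I (n + 1) M)) := inferInstance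
      rw [← cancel_epi (R.map (Formal.modPowπ I (n + 1) M)), ← Category.assoc, hg, hφ, Category.comp_id]
  let ψ : Formal.completion I (R.obj M) ⟶ Formal.completion I M ⋙ R :=
    NatTrans.ofOpSequence φ (fun n => by
      refine (cancel_epi (Formal.modPowπ I (n + 1 + 1) (R.obj M))).1 ?_
      simp only [Formal.completion, Functor.comp_map, Functor.ofOpSequence_map_homOfLE_succ]
      rw [← Category.assoc, Formal.modPowπ_trans, hφ, ← Category.assoc, hφ, ← R.map_comp,
        Formal.modPowπ_trans])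
  haveI : ∀ n, IsIso (ψ.app n) := fun ⟨n⟩ => inferInstanceAs (IsIso (φ n))
  haveI := NatIso.isIso_of_isIso_app ψ
  exact ⟨(asIso ψ).symm⟩

end Affine

end Groth.Agent.RlimMilnor.CohSys
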