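import Groth.Agent.RlimMilnor.CanonicalConv
import Groth.Agent.QCohBase.CohProps

/-!
# The system of quotients of the limit, as sheaves
-/

set_option autoImplicit false
set_option linter.all false
set_option backward.isDefEq.respectTransparency false

universe u

open CategoryTheory CategoryTheory.Limits Opposite AlgebraicGeometry
open Groth.Agent.FormalFun Groth.Agent.QCohBase

namespace Groth.Agent.RlimMilnor.CohSys

variable {A : Type u} [CommRing A] [IsNoetherianRing A] {I : Ideal A}
  {U : (Spec (CommRingCat.of A)).Opens} {G : ℕᵒᵖ ⥤ (U : Scheme.{u}).Modules}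

lemma isIso_fromTildeΓ_push (hG : Formal.IsCohFormal I G) (k : ℕ) :
    IsIso (Scheme.Modules.fromTildeΓ (R := CommRingCat.of A) ((Scheme.Modules.pushforward U.ι).obj (G.obj (op k)))) := by
  haveI : QuasiCompact U.ι := inferInstance
  haveI : (G.obj (op k)).IsQuasicoherent := (hG.1 k).1
  haveI : ((Scheme.Modules.pushforward U.ι).obj (G.obj (op k))).IsQuasicoherent := isQuasicoherent_pushforward _ U.ι
  exact Scheme.Modules.isIso_fromTildeΓ_of_isQuasicoherent ((Scheme.Modules.pushforward U.ι).obj (G.obj (op k)))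

omit [IsNoetherianRing A] in
lemma exists_sub_quot {S : ℕᵒᵖ ⥤ ModuleCat.{u} A} (I : Ideal A) (n N : ℕ)
    (hN : LinearMap.ker (limit.π S (op N)).hom ≤ I ^ (n + 1) • (⊤ : Submodule A ↑(limit S))) :
    ∃ (R : ModuleCat.{u} A) (i : R ⟶ S.obj (op N)) (p : R ⟶ ModuleCat.of A (Formal2.quotPow A I ↑(limit S) n)),
      Mono i ∧ Epi p := by
  let π := (limit.π S (op N)).hom
  refine ⟨ModuleCat.of A ↥(LinearMap.range π), ModuleCat.ofHom (LinearMap.range π).subtype,
    ModuleCat.ofHom ((Submodule.mapQ (LinearMap.ker π) (I ^ (n + 1) • (⊤ : Submodule A ↑(limit S))) LinearMap.id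
      (by rw [Submodule.comap_id]; exact hN)) ∘ₗ (LinearMap.quotKerEquivRange π).symm.toLinearMap),
    (ModuleCat.mono_iff_injective _).2 Subtype.val_injective, (ModuleCat.epi_iff_surjective _).2 fun q => ?_⟩
  obtain ⟨y, rfl⟩ := Submodule.Quotient.mk_surjective _ q
  refine ⟨LinearMap.quotKerEquivRange π (Submodule.Quotient.mk y), ?_⟩
  show Submodule.mapQ _ (I ^ (n + 1) • (⊤ : Submodule A ↑(limit S))) LinearMap.id (by rw [Submodule.comap_id]; exact hN) ((LinearMap.quotKerEquivRange π).symm (LinearMap.quotKerEquivRange π (Submodule.Quotient.mk y))) = _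
  rw [LinearEquiv.symm_apply_apply]
  rfl

lemma isLocalized_toOpen' {R : CommRingCat.{u}} (M : ModuleCat.{u} R) (f : R) :
    IsLocalizedModule (Submonoid.powers f) (tilde.toOpen M (PrimeSpectrum.basicOpen f)).hom :=
  inferInstance

omit [IsNoetherianRing A] in
lemma isLocalized_toOpen (M : ModuleCat.{u} A) (f : A) :
    IsLocalizedModule (Submonoid.powers f) (tilde.toOpen (R := CommRingCat.of A) M (PrimeSpectrum.basicOpen f)).hom :=
  isLocalized_toOpen' (R := CommRingCat.of A) M f

omit [IsNoetherianRing A] in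
lemma isQuasicoherent_restrict_tilde (M : ModuleCat.{u} A) :
    ((Scheme.Modules.restrictFunctor U.ι).obj ((tilde.functor (CommRingCat.of A)).obj M)).IsQuasicoherent := by
  haveI : ((tilde.functor (CommRingCat.of A)).obj M).IsQuasicoherent :=
    inferInstanceAs (tilde (R := CommRingCat.of A) M).IsQuasicoherent
  infer_instance

theorem isCoh_restrict_quotPow (hG : Formal.IsCohFormal I G) (n N : ℕ)
    (hN : LinearMap.ker (limit.π (Algz.sectMod A U G) (op N)).hom ≤
      I ^ (n + 1) • (⊤ : Submodule A ↑(limit (Algz.sectMod A U G)))) :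
    Coh.IsCoh ((Scheme.Modules.restrictFunctor U.ι).obj
      (Formal2.tmod A (Formal2.quotPow A I ↑(limit (Algz.sectMod A U G)) n))) := by
  set S := Algz.sectMod A U G
  let T := tilde.functor (CommRingCat.of A)
  let Rs := Scheme.Modules.restrictFunctor U.ι
  let P := Scheme.Modules.pushforward U.ι
  obtain ⟨R, i, p, hi, hp⟩ := exists_sub_quot (S := S) I n N hN
  haveI := isIso_fromTildeΓ_push hG N
  haveI : Mono (T.map i) := mono_tilde_map (R := CommRingCat.of A) i
  let j : T.obj R ⟶ P.obj (G.obj (op N)) :=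
    T.map i ≫ Scheme.Modules.fromTildeΓ (R := CommRingCat.of A) (P.obj (G.obj (op N)))
  haveI : Mono j := mono_comp _ _
  haveI : Mono (Rs.map j) := mono_restrictMap j
  haveI : IsIso ((Scheme.Modules.restrictAdjunction U.ι).counit.app (G.obj (op N))) := inferInstance
  have hR : Coh.IsCoh (Rs.obj (T.obj R)) :=
    isCoh_of_mono (Rs.map j ≫ (Scheme.Modules.restrictAdjunction U.ι).counit.app (G.obj (op N))) (hG.1 N)
      (isQuasicoherent_restrict_tilde R)
  haveI := Functor.preservesEpimorphisms_of_adjunction (tilde.adjunction (R := CommRingCat.of A))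
  haveI : Epi (T.map p) := Functor.map_epi _ p
  haveI : Epi (Rs.map (T.map p)) := inferInstance
  exact isCoh_of_epi (Rs.map (T.map p)) hR
    (isQuasicoherent_restrict_tilde _)


omit [IsNoetherianRing A] in
noncomputable abbrev tapp {M N : ModuleCat.{u} A} (φ : M ⟶ N) (f : A) :=
  ((modulesSpecToSheaf (R := CommRingCat.of A)).map ((tilde.functor (CommRingCat.of A)).map φ)).1.app
    (op (PrimeSpectrum.basicOpen f : (Spec (CommRingCat.of A)).Opens))

omit [IsNoetherianRing A] in
lemma tapp_toOpen {M N : ModuleCat.{u} A} (φ : M ⟶ N) (f : A) (m : M) :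
    tapp φ f (tilde.toOpen (R := CommRingCat.of A) M (PrimeSpectrum.basicOpen f) m) =
      tilde.toOpen (R := CommRingCat.of A) N (PrimeSpectrum.basicOpen f) (φ m) :=
  ConcreteCategory.congr_hom (tilde.toOpen_map_app (R := CommRingCat.of A) φ _) m

theorem injective_on_basicOpen (hG : Formal.IsCohFormal I G)
    (hb : ∀ k : ℕ, ∃ n : ℕ, LinearMap.ker (limit.π (Algz.sectMod A U G) (op n)).hom ≤
      I ^ k • (⊤ : Submodule A ↑(limit (Algz.sectMod A U G))))
    (ℓ : ∀ n : ℕ, ModuleCat.of A (Formal2.quotPow A I ↑(limit (Algz.sectMod A U G)) n) ⟶ (Algz.sectMod A U G).obj (op n))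
    (hℓ : ∀ n : ℕ, ModuleCat.ofHom (Formal2.quotPowπ A I ↑(limit (Algz.sectMod A U G)) n) ≫ ℓ n =
      limit.π (Algz.sectMod A U G) (op n))
    (f : A)
    (x : ∀ n : ℕ, (Scheme.Modules.presheaf (Formal2.tmod A (Formal2.quotPow A I ↑(limit (Algz.sectMod A U G)) n))).obj (op (PrimeSpectrum.basicOpen f : (Spec (CommRingCat.of A)).Opens)))
    (hx : ∀ n : ℕ, Scheme.Modules.Hom.app (Formal2.tmodMap A (Formal2.quotPowTrans A I ↑(limit (Algz.sectMod A U G)) n)) (PrimeSpectrum.basicOpen f : (Spec (CommRingCat.of A)).Opens) (x (n + 1)) = x n)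
    (h0 : ∀ n : ℕ, Scheme.Modules.Hom.app
      (((tilde.adjunction (R := CommRingCat.of A)).homEquiv (ModuleCat.of A (Formal2.quotPow A I ↑(limit (Algz.sectMod A U G)) n))
        ((Scheme.Modules.pushforward U.ι).obj (G.obj (op n)))).symm (ℓ n))
      (PrimeSpectrum.basicOpen f : (Spec (CommRingCat.of A)).Opens) (x n) = 0)
    (n : ℕ) : x n = 0 := by
  let S := Algz.sectMod A U G
  obtain ⟨N, hN⟩ := hb (n + 1)
  let k := max n N
  have hnk : n ≤ k := le_max_left _ _
  have hxk : ∀ (k : ℕ) (h : n ≤ k), tapp ((quotSys I S).map (homOfLE h).op) f (x k) = x n := by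
    intro k h
    induction k, h using Nat.le_induction with
    | base =>
      rw [show (homOfLE (le_refl n)).op = 𝟙 (op n) from rfl, CategoryTheory.Functor.map_id]
      simp only [tapp, CategoryTheory.Functor.map_id]
      rfl
    | succ k h ih =>
      rw [show (homOfLE (h.trans (Nat.le_succ k))).op = (homOfLE (Nat.le_succ k)).op ≫ (homOfLE h).op from rfl,
        Functor.map_comp]
      simp only [tapp, Functor.map_comp]
      refine Eq.trans ?_ ih
      refine congrArg (tapp ((quotSys I S).map (homOfLE h).op) f) ?_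
      refine Eq.trans ?_ (hx k)
      show tapp ((quotSys I S).map (homOfLE (Nat.le_succ k)).op) f (x (k + 1)) = _
      rw [show (quotSys I S).map (homOfLE (Nat.le_succ k)).op = ModuleCat.ofHom (Formal2.quotPowTrans A I ↑(limit S) k)
        from Functor.ofOpSequence_map_homOfLE_succ _ k]
      rfl
  haveI := fun (M : ModuleCat.{u} A) => isLocalized_toOpen M f
  obtain ⟨⟨m, ⟨_, j, rfl⟩⟩, hm⟩ := IsLocalizedModule.surj (Submonoid.powers f)
    (tilde.toOpen (R := CommRingCat.of A) (ModuleCat.of A (Formal2.quotPow A I ↑(limit S) k)) (PrimeSpectrum.basicOpen f)).hom (x k)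
  have hℓ0 : tapp (ℓ k) f (x k) = 0 := by
    haveI := isIso_fromTildeΓ_push hG k
    refine app_injective_of_mono (Scheme.Modules.fromTildeΓ (R := CommRingCat.of A)
      ((Scheme.Modules.pushforward U.ι).obj (G.obj (op k)))) (PrimeSpectrum.basicOpen f) ?_
    refine Eq.trans ?_ (map_zero _).symm
    refine Eq.trans ?_ (h0 k)
    rw [Adjunction.homEquiv_counit]
    rfl
  have h1 : tilde.toOpen (R := CommRingCat.of A) (S.obj (op k)) (PrimeSpectrum.basicOpen f) (ℓ k m) = 0 := by
    rw [← tapp_toOpen (ℓ k) f m]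
    refine (congrArg (tapp (ℓ k) f) hm.symm).trans ?_
    refine ((tapp (ℓ k) f).hom.map_smul _ _).trans ?_
    rw [show (tapp (ℓ k) f).hom (x k) = 0 from hℓ0, smul_zero]
  obtain ⟨⟨_, e, rfl⟩, he⟩ := (IsLocalizedModule.eq_zero_iff (Submonoid.powers f)
    (tilde.toOpen (R := CommRingCat.of A) (S.obj (op k)) (PrimeSpectrum.basicOpen f)).hom).1 h1
  obtain ⟨y, rfl⟩ := Submodule.Quotient.mk_surjective _ m
  have hy : (f ^ e) • y ∈ I ^ (n + 1) • (⊤ : Submodule A ↑(limit S)) := hN (by
    rw [LinearMap.mem_ker]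
    have hk : limit.π S (op k) ((f ^ e) • y) = 0 := by
      rw [← hℓ k]
      refine Eq.trans ?_ he
      rw [map_smul]
      rfl
    refine (ConcreteCategory.congr_hom (limit.w S (homOfLE (le_max_right n N)).op) _).symm.trans ?_
    show S.map _ (limit.π S (op k) _) = 0
    rw [hk, map_zero])
  have h2 : (f ^ e * f ^ j) • (tapp ((quotSys I S).map (homOfLE hnk).op) f (x k)) = 0 := by
    rw [mul_smul]
    refine (congrArg (f ^ e • ·) ((tapp _ f).hom.map_smul (f ^ j) (x k)).symm).trans ?_
    refine (congrArg (fun z => f ^ e • tapp ((quotSys I S).map (homOfLE hnk).op) f z) hm).trans ?_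
    refine (congrArg (f ^ e • ·) (tapp_toOpen ((quotSys I S).map (homOfLE hnk).op) f (Submodule.Quotient.mk y))).trans ?_
    refine ((tilde.toOpen (R := CommRingCat.of A) _ (PrimeSpectrum.basicOpen f)).hom.map_smul _ _).symm.trans ?_
    have hz : f ^ e • ((quotSys I S).map (homOfLE hnk).op (Submodule.Quotient.mk y)) = 0 := by
      refine ((((quotSys I S).map (homOfLE hnk).op).hom.map_smul (f ^ e) (Submodule.Quotient.mk y)).symm).trans ?_
      exact (quotSys_map I hnk (f ^ e • y)).trans ((Submodule.Quotient.mk_eq_zero _).2 hy)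
    exact (congrArg _ hz).trans (map_zero _)
  rw [hxk k hnk, ← pow_add] at h2
  have hinj := ((Module.End.isUnit_iff _).1 (IsLocalizedModule.map_units
    (tilde.toOpen (R := CommRingCat.of A) (ModuleCat.of A (Formal2.quotPow A I ↑(limit S) n)) (PrimeSpectrum.basicOpen f)).hom
      (⟨f ^ (e + j), e + j, rfl⟩ : Submonoid.powers f))).1
  exact hinj (h2.trans (map_zero _).symm)

end Groth.Agent.RlimMilnor.CohSys
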