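import Groth.Agent.RlimMilnor.Basic
import Groth.Agent.SiteRlim.Transfer
import Groth.Agent.CohTopLib.BasisCover
import Groth.Prelude.Def_CohTop

/-!
# The Milnor sequence for towers of sheaves on a topological space
-/

set_option autoImplicit false
set_option linter.all false

universe u

open CategoryTheory CategoryTheory.Limits CategoryTheory.Abelian Opposite TopologicalSpace

namespace Groth.Agent.RlimMilnor

theorem milnor_top {X : TopCat.{u}} (F : ℕᵒᵖ ⥤ CohTop.Ab X) (B : Set (Opens X)) (hB : Opens.IsBasis B)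
    (hsurj : ∀ V ∈ B, ∀ n : ℕ, Function.Surjective ((F.map (homOfLE (Nat.le_succ n)).op).hom.app (op V)).hom)
    (hvan : ∀ V ∈ B, ∀ (n i : ℕ), 0 < i → Subsingleton (CohTop.HU (F.obj (op n)) i V))
    (Z : CohTop.Ab X) (i j : ℕ) (hij : j + 1 = i) :
    (∀ ξ : ∀ n : ℕ, Ext.{u} Z (F.obj (op n)) i,
      (∀ n, (ξ (n + 1)).comp (Ext.mk₀ (F.map (homOfLE (Nat.le_succ n)).op)) (add_zero i) = ξ n) →
        ∃ η : Ext.{u} Z (limit F) i, ∀ n, η.comp (Ext.mk₀ (limit.π F (op n))) (add_zero i) = ξ n) ∧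
    ∃ δ : (∀ n : ℕ, Ext.{u} Z (F.obj (op n)) j) →+ Ext.{u} Z (limit F) i,
      (∀ y : Ext.{u} Z (limit F) i, (∀ n, y.comp (Ext.mk₀ (limit.π F (op n))) (add_zero i) = 0) ↔ y ∈ δ.range) ∧
        δ.ker = (extDiff Z F j).range := by
  letI := HasDerivedCategory.standard (CohTop.Ab X)
  haveI := Groth.Agent.SiteRlim.hasProduct_nat
    (fun n : ℕ => (DerivedCategory.singleFunctor (CohTop.Ab X) 0).obj (F.obj (op n)))
  refine milnor F B (Groth.Agent.CohTopLib.exists_basis_cover hB) (fun U hU p n => hvan U hU n (p + 1) p.succ_pos)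
    (fun U hU y => ?_) Z i j hij
  choose s hs using hsurj U hU
  let x : ∀ n : ℕ, (F.obj (op n)).obj.obj (op U) := fun n =>
    Nat.rec (motive := fun n => (F.obj (op n)).obj.obj (op U)) 0 (fun n w => s n (w - y n)) n
  refine ⟨x, funext fun n => ?_⟩
  show x n - ((F.map (homOfLE (Nat.le_succ n)).op).hom.app (op U)).hom (s n (x n - y n)) = y n
  rw [hs]
  abel

end Groth.Agent.RlimMilnor
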