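import Groth.Agent.RlimMilnor.QCoh
import Groth.Agent.TowerLib.Basic
import Groth.Agent.FormalFun.Quot
import Groth.Agent.Devissage.Summand
import Groth.Agent.RPushQCoh.MV

/-!
# Truncations of limits of quasi-coherent formal systems
-/

set_option autoImplicit false
set_option linter.all false
set_option backward.isDefEq.respectTransparency false

universe u

open CategoryTheory CategoryTheory.Limits Opposite TopologicalSpace AlgebraicGeometry
open Groth.Agent.QCohBase Groth.Agent.FormalFun

namespace Groth.Agent.RlimMilnor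

instance {X : Scheme.{u}} : HasFiniteBiproducts X.Modules := HasFiniteBiproducts.of_hasFiniteProducts

/-- Finite biproducts stay in classes containing zero and closed under extensions. -/
lemma biproduct_mem' {X : Scheme.{u}} {Q : X.Modules → Prop} (zero : ∀ M : X.Modules, IsZero M → Q M)
    (ext : ∀ S : ShortComplex X.Modules, S.ShortExact → Q S.X₁ → Q S.X₃ → Q S.X₂)
    {B : X.Modules} (hB : Q B) : ∀ r : ℕ, Q (⨁ fun _ : Fin r => B) := by
  intro r
  induction r with
  | zero =>
    refine zero _ ?_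
    rw [IsZero.iff_id_eq_zero]
    exact biproduct.hom_ext _ _ fun j => Fin.elim0 j
  | succ r ih =>
    let T : ShortComplex X.Modules :=
      ShortComplex.mk (biproduct.ι (fun _ : Fin (r + 1) => B) 0)
        (biproduct.lift (fun k : Fin r => biproduct.π (fun _ : Fin (r + 1) => B) k.succ)) (by
          refine biproduct.hom_ext _ _ fun k => ?_
          simp [biproduct.ι_π_ne _ (Fin.succ_ne_zero k).symm])
    have hT : T.ShortExact :=
      ShortComplex.Splitting.shortExact
        { r := biproduct.π _ 0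
          s := biproduct.desc (fun k : Fin r => biproduct.ι (fun _ : Fin (r + 1) => B) k.succ)
          f_r := by simp [T]
          s_g := by
            refine biproduct.hom_ext' _ _ fun k => biproduct.hom_ext _ _ fun j => ?_
            by_cases hjk : k = j
            · subst hjk; simp [T]
            · simp [T, biproduct.ι_π_ne _ hjk,
                biproduct.ι_π_ne _ (fun h => hjk (Fin.succ_injective _ h))]
          id := by
            rw [← biproduct.total (f := fun _ : Fin (r + 1) => B), Fin.sum_univ_succ]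
            congr 1
            rw [show T.g = biproduct.lift _ from rfl, biproduct.lift_desc] }
    exact ext _ hT hB ih

lemma isQuasicoherent_biproduct {X : Scheme.{u}} {B : X.Modules} (hB : B.IsQuasicoherent) (r : ℕ) :
    (⨁ fun _ : Fin r => B).IsQuasicoherent :=
  biproduct_mem' (Q := fun M : X.Modules => M.IsQuasicoherent)
    (fun _ hz => RPushQCoh.isQuasicoherent_of_isZero hz)
    (fun _ hS => isQuasicoherent_of_extension hS) hB r

variable {A : Type u} [CommRing A] {X : Scheme.{u}} [X.Over (Spec (CommRingCat.of A))]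
  {I : Ideal A} {G : ℕᵒᵖ ⥤ X.Modules}

/-- Sections as a functor. -/
noncomputable def sect (V : X.Opens) : X.Modules ⥤ AddCommGrpCat.{u} :=
  modAb X ⋙ sheafToPresheaf _ AddCommGrpCat.{u} ⋙ (evaluation _ _).obj (op V)

instance sect_additive (V : X.Opens) : (sect V).Additive where

lemma sect_map_app {M N : X.Modules} (φ : M ⟶ N) (V : X.Opens) (s : Γ(M, V)) :
    (sect V).map φ s = φ.app V s := rfl

lemma preservesLimit_sect (G : ℕᵒᵖ ⥤ X.Modules) (V : X.Opens) : PreservesLimit G (sect V) := by
  haveI : PreservesLimit G (modAb X) := preservesLimit_toSheaf G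
  exact inferInstanceAs (PreservesLimit G (modAb X ⋙ (sheafToPresheaf _ AddCommGrpCat.{u} ⋙ (evaluation _ _).obj (op V))))

variable (A) in
/-- The action of a scalar on sections. -/
noncomputable def act (V : X.Opens) (M : X.Modules) (a : A) : (sect V).obj M →+ (sect V).obj M :=
  ((sect V).map (Formal.smulMod A M a)).hom

lemma act_natural (V : X.Opens) {M N : X.Modules} (φ : M ⟶ N) (a : A) (s : (sect V).obj M) :
    (sect V).map φ (act A V M a s) = act A V N a ((sect V).map φ s) := by
  have h := congrArg (fun f => ((sect V).map f) s) (smulMod_naturality φ a)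
  simp only [Functor.map_comp] at h
  exact h

lemma act_mul (V : X.Opens) (M : X.Modules) (a b : A) (s : (sect V).obj M) :
    act A V M (a * b) s = act A V M a (act A V M b s) := by
  show (sect V).map _ s = _
  rw [smulMod_mul, Functor.map_comp]
  rfl

lemma sum_apply {κ : Type*} (t : Finset κ) {P Q : AddCommGrpCat.{u}} (f : κ → (P ⟶ Q)) (x : P) :
    (∑ j ∈ t, f j) x = ∑ j ∈ t, f j x := by
  classical
  induction t using Finset.induction_on with
  | empty => simp
  | @insert a s ha ih =>
    rw [Finset.sum_insert ha, Finset.sum_insert ha, ← ih]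
    rfl

/-- The transition map on sections. -/
noncomputable def trV (G : ℕᵒᵖ ⥤ X.Modules) (V : X.Opens) {i j : ℕ} (h : i ≤ j) :
    (sect V).obj (G.obj (op j)) →+ (sect V).obj (G.obj (op i)) :=
  ((sect V).map (G.map (homOfLE h).op)).hom

lemma trV_trV (V : X.Opens) {i j k : ℕ} (h : i ≤ j) (h' : j ≤ k) (s : (sect V).obj (G.obj (op k))) :
    trV G V h (trV G V h' s) = trV G V (h.trans h') s := by
  show _ = (sect V).map (G.map (homOfLE (h.trans h')).op) s
  rw [show (homOfLE (h.trans h')).op = (homOfLE h').op ≫ (homOfLE h).op from rfl, G.map_comp, Functor.map_comp]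
  rfl

lemma trV_refl (V : X.Opens) (i : ℕ) (s : (sect V).obj (G.obj (op i))) : trV G V (le_refl i) s = s := by
  show (sect V).map (G.map (homOfLE (le_refl i)).op) s = s
  rw [show (homOfLE (le_refl i)).op = 𝟙 (op i) from rfl, G.map_id, CategoryTheory.Functor.map_id]
  rfl

lemma trV_act (V : X.Opens) {i j : ℕ} (h : i ≤ j) (a : A) (s : (sect V).obj (G.obj (op j))) :
    trV G V h (act A V _ a s) = act A V _ a (trV G V h s) := act_natural V _ a s

variable (hG : Formal2.IsQCohFormal I G)
include hG

lemma act_eq_zero (V : X.Opens) {l : ℕ} {a : A} (ha : a ∈ I ^ (l + 1)) (s : (sect V).obj (G.obj (op l))) :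
    act A V _ a s = 0 := by
  show (sect V).map (Formal.smulMod A _ a) s = 0
  rw [hG.2.1 l a ha, Functor.map_zero]
  rfl

lemma exists_eq_sum_of_trV_eq_zero {V : X.Opens} (hV : IsAffineOpen V) (m : ℕ) {κ : Type} [Fintype κ] (c : κ → A)
    (hc : Ideal.span (Set.range c) = I ^ (m + 1)) (x : (sect V).obj (G.obj (op (m + 1))))
    (hx : trV G V (Nat.le_succ m) x = 0) :
    ∃ w : κ → (sect V).obj (G.obj (op (m + 1))), x = ∑ j, act A V _ (c j) (w j) := by
  classical
  let M := G.obj (op (m + 1))
  let g : M ⟶ G.obj (op m) := G.map (homOfLE (Nat.le_succ m)).op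
  obtain ⟨hz, hiso⟩ := hG.2.2 m
  let e := Fintype.equivFin κ
  let r := Fintype.card κ
  let φ : (⨁ fun _ : Fin r => M) ⟶ M := biproduct.desc fun i => Formal.smulMod A M (c (e.symm i))
  have hJ : I ^ (m + 1) ≤ ann A (cokernel.π φ) := by
    rw [← hc, Ideal.span_le]
    rintro _ ⟨j, rfl⟩
    show Formal.smulMod A M (c j) ≫ cokernel.π φ = 0
    have h : biproduct.ι (fun _ : Fin r => M) (e j) ≫ φ ≫ cokernel.π φ = 0 := by
      rw [cokernel.condition, comp_zero]
    simp only [φ, biproduct.ι_desc_assoc, Equiv.symm_apply_apply] at h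
    exact h
  have hzero : ∀ a ∈ I ^ (m + 1), Formal.smulMod A M a ≫ g = 0 := fun a ha => by
    rw [smulMod_naturality, hG.2.1 m a ha, comp_zero]
  have hφg : φ ≫ g = 0 := biproduct.hom_ext' _ _ fun i => by
    rw [biproduct.ι_desc_assoc, comp_zero]
    exact hzero _ (hc ▸ Ideal.subset_span ⟨_, rfl⟩)
  let S := ShortComplex.mk φ g hφg
  have hgd : qπ M (I ^ (m + 1)) ≫ cokernel.desc _ g hz = g := cokernel.π_desc _ _ _
  haveI := hiso
  haveI : Epi (cokernel.desc _ g hz) := @IsIso.epi_of_iso _ _ _ _ _ hiso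
  have hS : S.Exact := by
    refine ShortComplex.exact_of_g_is_cokernel _ (CokernelCofork.IsColimit.ofπ _ _
      (fun {W} k hk => inv (cokernel.desc _ g hz) ≫ qDesc k (J := I ^ (m + 1)) (fun a ha => ?_)) ?_ ?_)
    · show Formal.smulMod A M a ≫ k = 0
      have h1 : Formal.smulMod A M a ≫ cokernel.π φ = 0 := hJ ha
      rw [show k = cokernel.π φ ≫ cokernel.desc φ k hk from (cokernel.π_desc _ _ _).symm, reassoc_of% h1, zero_comp]
    · intro W k hk
      show g ≫ _ = k
      rw [← Category.assoc, show g ≫ inv (cokernel.desc _ g hz) = qπ M (I ^ (m + 1)) by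
        rw [IsIso.comp_inv_eq]; exact hgd.symm]
      exact π_qDesc _ _
    · intro W k hk f hf
      change g ≫ f = k at hf
      rw [← cancel_epi (cokernel.desc _ g hz), IsIso.hom_inv_id_assoc]
      refine coequalizer.hom_ext ?_
      show qπ M (I ^ (m + 1)) ≫ cokernel.desc _ g hz ≫ f = qπ M (I ^ (m + 1)) ≫ qDesc k _
      rw [reassoc_of% hgd, π_qDesc]
      exact hf
  haveI : Epi (kernel.lift g φ hφg) := (S.exact_iff_epi_kernel_lift).1 hS
  obtain ⟨s, hs⟩ := sections_exact_left (T := ShortComplex.mk (kernel.ι g) g (kernel.condition g))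
    (ShortComplex.exact_of_f_is_kernel _ (kernelIsKernel g)) (U := V) x hx
  obtain ⟨t, ht⟩ := Groth.Agent.QCohBase.app_surjective_of_epi (kernel.lift g φ hφg) (isQuasicoherent_biproduct (hG.1 (m + 1)) r)
    (isQuasicoherent_kernel g (hG.1 (m + 1)) (hG.1 m)) hV s
  refine ⟨fun j => (sect V).map (biproduct.π (fun _ : Fin r => M) (e j)) t, ?_⟩
  have hx' : x = (sect V).map φ t := by
    have h1 : (sect V).map φ = (sect V).map (kernel.lift g φ hφg) ≫ (sect V).map (kernel.ι g) := by
      rw [← Functor.map_comp, kernel.lift_ι]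
    rw [h1]
    exact (hs.symm.trans (congrArg ((kernel.ι g).app V) ht.symm))
  rw [hx', show φ = ∑ j : κ, biproduct.π (fun _ : Fin r => M) (e j) ≫ Formal.smulMod A M (c j) from
    biproduct.hom_ext' _ _ fun i => by
      rw [Preadditive.comp_sum, Finset.sum_eq_single (e.symm i)]
      · simp [φ]
      · intro j _ hj
        rw [biproduct.ι_π_ne_assoc _ (fun h => hj (by rw [h, e.symm_apply_apply])), zero_comp]
      · simp]
  rw [Functor.map_sum, sum_apply]
  refine Finset.sum_congr rfl fun j _ => ?_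
  rw [Functor.map_comp]
  rfl

lemma exists_eq_sum_of_proj_eq_zero (hI : I.FG) {V : X.Opens} (hV : IsAffineOpen V) (n : ℕ) {r : ℕ}
    (a : Fin r → A) (ha : Ideal.span (Set.range a) = I ^ (n + 1)) (x : (sect V).obj (limit G))
    (hx : (sect V).map (limit.π G (op n)) x = 0) :
    ∃ y : Fin r → (sect V).obj (limit G), x = ∑ j, act A V _ (a j) (y j) := by
  classical
  haveI := preservesLimit_sect G V
  let P : ∀ k, (sect V).obj (limit G) →+ (sect V).obj (G.obj (op k)) := fun k => ((sect V).map (limit.π G (op k))).hom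
  have hP : ∀ {i j : ℕ} (h : i ≤ j) z, trV G V h (P j z) = P i z := fun {i j} h z => by
    show (sect V).map _ ((sect V).map _ z) = (sect V).map _ z
    rw [← ConcreteCategory.comp_apply, ← Functor.map_comp, limit.w]
  have step : ∀ (d : ℕ) (Y : Fin r → (sect V).obj (G.obj (op (n + d)))),
      P (n + d) x = ∑ j, act A V _ (a j) (Y j) →
      ∃ Y' : Fin r → (sect V).obj (G.obj (op (n + d + 1))),
        P (n + d + 1) x = ∑ j, act A V _ (a j) (Y' j) ∧
        ∀ (l : ℕ) (hl : l + 1 ≤ d) j, trV G V (show l ≤ n + d + 1 by omega) (Y' j) =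
          trV G V (show l ≤ n + d by omega) (Y j) := by
    intro d Y hY
    have hl₀ : ∀ j, ∃ z : (sect V).obj (G.obj (op (n + d + 1))), trV G V (Nat.le_succ (n + d)) z = Y j :=
      fun j => surjective_transition hG hV (n + d) (Y j)
    choose Y₀ hY₀' using hl₀
    obtain ⟨s, hs⟩ : (I ^ d).FG := hI.pow
    let e : s → A := fun k => k.1
    have hc : Ideal.span (Set.range fun jk : Fin r × Fin s.card => a jk.1 * (e (s.equivFin.symm jk.2))) =
        I ^ (n + d + 1) := by
      rw [show n + d + 1 = (n + 1) + d by omega, pow_add, ← ha, ← hs]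
      show _ = Ideal.span (Set.range a) * Ideal.span (s : Set A)
      rw [Ideal.span_mul_span']
      congr 1
      ext z
      simp only [Set.mem_range, Set.mem_mul, Finset.mem_coe]
      constructor
      · rintro ⟨⟨j, k⟩, rfl⟩
        exact ⟨_, ⟨j, rfl⟩, _, (s.equivFin.symm k).2, rfl⟩
      · rintro ⟨_, ⟨j, rfl⟩, b, hb, rfl⟩
        exact ⟨(j, s.equivFin ⟨b, hb⟩), by simp [e]⟩
    obtain ⟨w, hw⟩ := exists_eq_sum_of_trV_eq_zero hG hV (n + d) _ hc
      (P (n + d + 1) x - ∑ j, act A V _ (a j) (Y₀ j)) (by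
        rw [map_sub, map_sum, hP, hY, sub_eq_zero]
        exact Finset.sum_congr rfl fun j _ => by rw [trV_act, hY₀'])
    refine ⟨fun j => Y₀ j + ∑ k, act A V _ (e (s.equivFin.symm k)) (w (j, k)), ?_, fun l hl j => ?_⟩
    · rw [sub_eq_iff_eq_add] at hw
      rw [hw, Fintype.sum_prod_type]
      refine (add_comm _ _).trans ?_
      rw [← Finset.sum_add_distrib]
      refine Finset.sum_congr rfl fun j _ => ?_
      rw [map_add, map_sum]
      congr 1
      exact Finset.sum_congr rfl fun k _ => act_mul V _ _ _ _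
    · rw [map_add, map_sum, Finset.sum_eq_zero (fun k _ => ?_), add_zero,
        ← trV_trV V (show l ≤ n + d by omega) (Nat.le_succ (n + d)), hY₀']
      rw [trV_act]
      refine act_eq_zero hG V (Ideal.pow_le_pow_right hl ?_) _
      rw [← hs]
      exact Ideal.subset_span (s.equivFin.symm k).2
  choose next hnext1 hnext2 using step
  let Y : ∀ d, { Y : Fin r → (sect V).obj (G.obj (op (n + d))) // P (n + d) x = ∑ j, act A V _ (a j) (Y j) } :=
    fun d => Nat.rec ⟨fun _ => 0, hx.trans (Finset.sum_eq_zero fun j _ => map_zero _).symm⟩ (fun d Y => ⟨next d Y.1 Y.2, hnext1 d Y.1 Y.2⟩) d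
  let z : ∀ l, Fin r → (sect V).obj (G.obj (op l)) := fun l j =>
    trV G V (show l ≤ n + (l + 1) by omega) ((Y (l + 1)).1 j)
  have hz : ∀ l j, trV G V (Nat.le_succ l) (z (l + 1) j) = z l j := fun l j => by
    rw [trV_trV]
    exact hnext2 (l + 1) _ (Y (l + 1)).2 l le_rfl j
  let hL := isLimitOfPreserves (sect V) (limit.isLimit G)
  have hlift : ∀ j, ∃ y, ∀ l, P l y = z l j := fun j => by
    obtain ⟨l₀, hl₀⟩ := TowerLib.Compatible.exists_lift (G ⋙ sect V) (x := fun l => z l j) (fun l => hz l j)
    refine ⟨(hL.lift (limit.cone (G ⋙ sect V))).hom l₀, fun l => ?_⟩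
    exact (ConcreteCategory.congr_hom (hL.fac (limit.cone (G ⋙ sect V)) (op l)) l₀).trans (hl₀ l)
  choose y hy using hlift
  refine ⟨y, Concrete.isLimit_ext _ hL _ _ fun ⟨l⟩ => ?_⟩
  show P l x = P l (∑ j, _)
  rw [map_sum, ← hP (show l ≤ n + (l + 1) by omega), (Y (l + 1)).2, map_sum]
  refine Finset.sum_congr rfl fun j _ => ?_
  rw [trV_act]
  show _ = P l (act A V _ (a j) (y j))
  rw [show P l (act A V _ (a j) (y j)) = act A V _ (a j) (P l (y j)) from act_natural V _ _ _, hy]

lemma surjective_proj {V : X.Opens} (hV : IsAffineOpen V) (n : ℕ) :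
    Function.Surjective ((sect V).map (limit.π G (op n))) := by
  haveI := preservesLimit_sect G V
  let hL := isLimitOfPreserves (sect V) (limit.isLimit G)
  choose up hup using fun m => surjective_transition hG hV m
  have hup' : ∀ m s, trV G V (Nat.le_succ m) (up m s) = s := hup
  intro s
  let u : ∀ d, (sect V).obj (G.obj (op (n + d))) := fun d =>
    Nat.rec (motive := fun d => (sect V).obj (G.obj (op (n + d)))) s (fun d w => up (n + d) w) d
  let x : ∀ l, (sect V).obj (G.obj (op l)) := fun l => trV G V (Nat.le_add_left l n) (u l)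
  have hx : ∀ l, trV G V (Nat.le_succ l) (x (l + 1)) = x l := fun l => by
    show trV G V _ (trV G V _ (up (n + l) (u l))) = trV G V _ (u l)
    rw [trV_trV, ← trV_trV V (Nat.le_add_left l n) (Nat.le_succ (n + l)), hup']
  obtain ⟨l₀, hl₀⟩ := TowerLib.Compatible.exists_lift (G ⋙ sect V) (x := x) hx
  refine ⟨(hL.lift (limit.cone (G ⋙ sect V))).hom l₀, ?_⟩
  refine (ConcreteCategory.congr_hom (hL.fac (limit.cone (G ⋙ sect V)) (op n)) l₀).trans ((hl₀ n).trans ?_)
  have hd : ∀ d, trV G V (Nat.le_add_right n d) (u d) = s := fun d => by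
    induction d with
    | zero => exact trV_refl V n s
    | succ d ih =>
      show trV G V _ (up (n + d) (u d)) = s
      rw [← trV_trV V (Nat.le_add_right n d) (Nat.le_succ (n + d)), hup', ih]
  exact hd n

theorem isIso_cokernel_desc (hI : I.FG) (n : ℕ)
    (h : Formal.smulFamily (I ^ (n + 1)) (limit G) ≫ limit.π G (op n) = 0) :
    IsIso (cokernel.desc _ _ h) := by
  classical
  obtain ⟨s, hs⟩ : (I ^ (n + 1)).FG := hI.pow
  let a : Fin s.card → A := fun j => (s.equivFin.symm j).1
  have ha : Ideal.span (Set.range a) = I ^ (n + 1) := by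
    rw [← hs]
    show Ideal.span _ = Ideal.span (s : Set A)
    congr 1
    ext z
    exact ⟨by rintro ⟨j, rfl⟩; exact (s.equivFin.symm j).2, fun hz => ⟨s.equivFin ⟨z, hz⟩, by simp [a]⟩⟩
  haveI : (modAb X).Faithful := inferInstanceAs (SheafOfModules.toSheaf X.ringCatSheaf).Faithful
  have epi_aff : ∀ {M N : X.Modules} (φ : M ⟶ N),
      (∀ V : X.Opens, IsAffineOpen V → Function.Surjective (φ.app V)) → Epi φ := fun φ hφ => by
    haveI : Epi ((modAb X).map φ) :=
      isLocallySurjective_of_basis _ {V | IsAffineOpen (X := X) V} X.isBasis_affineOpens fun V hV => hφ V hV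
    exact (modAb X).epi_of_epi_map this
  let S := ShortComplex.mk (Formal.smulFamily (I ^ (n + 1)) (limit G)) (limit.π G (op n)) h
  haveI : Epi (limit.π G (op n)) := epi_aff _ fun V hV => surjective_proj hG hV n
  have hS : S.Exact := by
    rw [S.exact_iff_epi_kernel_lift]
    refine epi_aff _ fun V hV k => ?_
    obtain ⟨y, hy⟩ := exists_eq_sum_of_proj_eq_zero hG hI hV n a ha ((kernel.ι S.g).app V k) (by
      show ((kernel.ι S.g) ≫ S.g).app V k = 0
      rw [kernel.condition]
      rfl)
    have hmem : ∀ j, a j ∈ I ^ (n + 1) := fun j => ha ▸ Ideal.subset_span ⟨j, rfl⟩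
    refine ⟨∑ j, (sect V).map (Sigma.ι (fun _ : ↥(I ^ (n + 1)) => limit G) ⟨a j, hmem j⟩) (y j), ?_⟩
    refine app_injective_of_mono (kernel.ι S.g) V (Eq.trans ?_ hy.symm)
    show (kernel.lift S.g S.f S.zero ≫ kernel.ι S.g).app V _ = _
    rw [kernel.lift_ι]
    show (sect V).map (Formal.smulFamily (I ^ (n + 1)) (limit G)) _ = _
    rw [map_sum]
    refine Finset.sum_congr rfl fun j _ => ?_
    rw [← ConcreteCategory.comp_apply, ← Functor.map_comp]
    simp only [Formal.smulFamily, colimit.ι_desc, Cofan.mk_ι_app]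
    rfl
  haveI : Mono (cokernel.desc S.f S.g S.zero) := (S.exact_iff_mono_cokernel_desc).1 hS
  haveI : Mono (cokernel.desc _ _ h) := inferInstanceAs (Mono (cokernel.desc S.f S.g S.zero))
  haveI : Epi (cokernel.desc _ _ h) := epi_of_epi_fac (cokernel.π_desc _ _ h)
  exact isIso_of_mono_of_epi _

theorem smulFamily_comp_π (n : ℕ) : Formal.smulFamily (I ^ (n + 1)) (limit G) ≫ limit.π G (op n) = 0 := by
  refine Sigma.hom_ext _ _ fun a => ?_
  simp only [Formal.smulFamily, colimit.ι_desc_assoc, Cofan.mk_ι_app, comp_zero]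
  exact (smulMod_naturality (limit.π G (op n)) a.1).trans (by rw [hG.2.1 n _ a.2, comp_zero])

end Groth.Agent.RlimMilnor
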